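import Cfsg.Agent.H6.Basic
import Cfsg.Agent.H6.Commutator
import Cfsg.Agent.H6.AutPGroup
import Cfsg.Prelude.Def_Transfer

set_option autoImplicit false
set_option linter.all false

/-!
A p'-group of automorphisms centralising all characteristic abelian subgroups, with `G = [G,A]`.
-/

namespace H6

open scoped commutatorElement

variable {G : Type*} [Group G]

theorem eq_one_of_fixed_of_generates {V : Type*} [CommGroup V] [Finite V] {p : ℕ} [hp : Fact p.Prime]
    (hV : IsPGroup p V) {A : Type*} [Group A] [Finite A] (φ : A →* MulAut V) (hA : Nat.Coprime (Nat.card A) p)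
    (hgen : Subgroup.closure {x : V | ∃ v : V, ∃ a : A, x = v⁻¹ * φ a v} = ⊤)
    {v : V} (hv : ∀ a, φ a v = v) : v = 1 := by
  classical
  haveI : Fintype A := Fintype.ofFinite A
  let N : V →* V := MonoidHom.mk' (fun w => ∏ a : A, φ a w) fun x y => by
    simp [Finset.prod_mul_distrib]
  have hN : Subgroup.closure {x : V | ∃ w : V, ∃ a : A, x = w⁻¹ * φ a w} ≤ N.ker := by
    rw [Subgroup.closure_le]
    rintro _ ⟨w, b, rfl⟩
    rw [SetLike.mem_coe, MonoidHom.mem_ker, map_mul, map_inv, inv_mul_eq_one]
    show ∏ a : A, φ a w = ∏ a : A, φ a (φ b w)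
    exact Fintype.prod_equiv (Equiv.mulRight b⁻¹) _ _ fun a => by simp [← MulAut.mul_apply]
  rw [hgen, top_le_iff] at hN
  have h1 : N v = 1 := by
    have : v ∈ N.ker := hN ▸ Subgroup.mem_top v
    exact this
  have h2 : v ^ Nat.card A = 1 := by
    rw [← h1]
    show _ = ∏ a : A, φ a v
    simp [hv, Nat.card_eq_fintype_card]
  obtain ⟨m, hm⟩ := hV v
  rw [← orderOf_eq_one_iff]
  exact Nat.eq_one_of_dvd_coprimes (Nat.Coprime.pow_right m hA)
    (orderOf_dvd_of_pow_eq_one h2) (orderOf_dvd_of_pow_eq_one hm)

theorem characteristic_lowerCentralSeries_top (n : ℕ) :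
    ((⊤ : Subgroup G).lowerCentralSeries n).Characteristic := inferInstance

theorem special_of_coprime_action [Finite G] {p : ℕ} [hp : Fact p.Prime] (hG : IsPGroup p G)
    (A : Subgroup (MulAut G)) (hA : Nat.Coprime (Nat.card A) p)
    (hGA : Subgroup.closure {x : G | ∃ g : G, ∃ a ∈ A, x = g⁻¹ * a g} = ⊤)
    (hchar : ∀ H : Subgroup G, H.Characteristic → IsMulCommutative H → ∀ a ∈ A, ∀ h ∈ H, a h = h) :
    Cfsg.IsSpecial p G ∧ (∀ g : G, (g ∈ Subgroup.center G ↔ ∀ a ∈ A, a g = g)) := by
  -- every characteristic abelian subgroup is central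
  have hcentral : ∀ H : Subgroup G, H.Characteristic → IsMulCommutative H → H ≤ Subgroup.center G := by
    intro H hH hHc h hh
    haveI := hH
    have hle : (⊤ : Subgroup G) ≤ Subgroup.centralizer (H : Set G) := by
      rw [← hGA, Subgroup.closure_le]
      rintro _ ⟨g, a, ha, rfl⟩
      exact displacement_mem_centralizer a (hchar H hH hHc a ha) g
    rw [Subgroup.mem_center_iff]
    intro g
    exact (Subgroup.mem_centralizer_iff.mp (hle (Subgroup.mem_top g)) h hh).symm
  -- class at most two
  set γ := fun n => (⊤ : Subgroup G).lowerCentralSeries n with hγ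
  have hstep : ∀ n, γ (n + 2) = ⊥ → 1 ≤ n → γ (n + 1) = ⊥ := by
    intro n hn hn1
    have hab : IsMulCommutative (γ n) := by
      rw [← Subgroup.commutator_self_eq_bot_iff, eq_bot_iff]
      have h1 : ∀ i j, ⁅γ i, γ j⁆ ≤ γ (i + j + 1) := by
        intro i
        induction i with
        | zero =>
          intro j
          rw [Nat.zero_add]
          show ⁅(⊤ : Subgroup G).lowerCentralSeries 0, γ j⁆ ≤ _
          rw [Subgroup.lowerCentralSeries_zero, Subgroup.commutator_comm]
          exact le_of_eq ((⊤ : Subgroup G).lowerCentralSeries_succ j).symm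
        | succ i ih =>
          intro j
          show ⁅(⊤ : Subgroup G).lowerCentralSeries (i + 1), γ j⁆ ≤ _
          rw [Subgroup.lowerCentralSeries_succ]
          -- three subgroup lemma
          have hK : (γ (i + 1 + j + 1)).Normal := inferInstance
          haveI := hK
          rw [← QuotientGroup.ker_mk' (γ (i + 1 + j + 1)), ← Subgroup.map_eq_bot_iff, Subgroup.map_commutator,
            Subgroup.map_commutator]
          apply Subgroup.commutator_commutator_eq_bot_of_rotate
          · rw [← Subgroup.map_commutator, ← Subgroup.map_commutator, Subgroup.map_eq_bot_iff, QuotientGroup.ker_mk',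
              Subgroup.commutator_comm (⊤ : Subgroup G), ← Subgroup.lowerCentralSeries_succ]
            refine le_trans (le_of_eq (Subgroup.commutator_comm _ _)) ((ih (j + 1)).trans (le_of_eq ?_))
            congr 1; omega
          · rw [← Subgroup.map_commutator, ← Subgroup.map_commutator, Subgroup.map_eq_bot_iff, QuotientGroup.ker_mk',
              Subgroup.commutator_comm (γ j)]
            refine (Subgroup.commutator_mono (ih j) le_rfl).trans (le_of_eq ?_)
            rw [show i + 1 + j + 1 = (i + j + 1) + 1 by omega]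
            exact ((⊤ : Subgroup G).lowerCentralSeries_succ _).symm
      exact (h1 n n).trans (((⊤ : Subgroup G).lowerCentralSeries_antitone (by omega : n + 2 ≤ n + n + 1)).trans hn.le)
    show (⊤ : Subgroup G).lowerCentralSeries (n + 1) = ⊥
    rw [Subgroup.lowerCentralSeries_succ, Subgroup.commutator_top_right_eq_bot_iff_le_center]
    exact hcentral _ (characteristic_lowerCentralSeries_top n) hab
  have hγ2 : γ 2 = ⊥ := by
    haveI := hG.isNilpotent
    have hc : γ (Group.nilpotencyClass G + 2) = ⊥ :=
      (Subgroup.lowerCentralSeries_eq_bot_iff_nilpotencyClass_le).mpr (by omega)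
    suffices h : ∀ k, γ (k + 2) = ⊥ → γ 2 = ⊥ from h _ hc
    intro k
    induction k with
    | zero => exact id
    | succ k ih => intro h; exact ih (hstep (k + 1) h (by omega))
  have hGZ : commutator G ≤ Subgroup.center G := by
    rw [← Subgroup.commutator_top_right_eq_bot_iff_le_center, ← Subgroup.top_lowerCentralSeries_one,
      ← Subgroup.lowerCentralSeries_succ]
    exact hγ2
  have hcomm : ∀ x y z : G, Commute ⁅x, y⁆ z := fun x y z =>
    (Subgroup.mem_center_iff.mp (hGZ (by rw [commutator_def]; exact Subgroup.commutator_mem_commutator (Subgroup.mem_top x) (Subgroup.mem_top y))) z).symm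
  -- commutators have order dividing p
  have hexp : ∀ e, (∀ x y : G, ⁅x, y⁆ ^ p ^ (e + 1) = 1) → ∀ x y : G, ⁅x, y⁆ ^ p = 1 := by
    intro e
    induction e with
    | zero => intro h x y; simpa using h x y
    | succ e ih =>
      intro h
      apply ih
      intro x y
      set q := p ^ (e + 1) with hq
      let W : Subgroup G := Subgroup.closure (Set.range fun g : G => g ^ q)
      have hWc : W.Characteristic := by
        apply characteristic_closure_of_forall
        rintro φ _ ⟨g, rfl⟩
        exact ⟨φ g, by simp⟩
      have hWab : IsMulCommutative W := by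
        rw [← Subgroup.le_centralizer_iff_isMulCommutative]
        rw [Subgroup.centralizer_closure, Subgroup.closure_le]
        rintro _ ⟨u, rfl⟩
        rw [SetLike.mem_coe, Subgroup.mem_centralizer_iff]
        rintro _ ⟨v, rfl⟩
        rw [← commutatorElement_eq_one_iff_mul_comm, commutator_pow_left (hcomm _ _ _).symm,
          commutator_pow_right (hcomm _ _ _).symm, ← pow_mul]
        obtain ⟨t, ht⟩ : p ^ (e + 1 + 1) ∣ q * q := by
          rw [hq, ← pow_add]; exact pow_dvd_pow p (by omega)
        rw [ht, pow_mul, h, one_pow]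
      have hx : x ^ q ∈ Subgroup.center G := hcentral W hWc hWab (Subgroup.subset_closure ⟨x, rfl⟩)
      rw [← commutator_pow_left (hcomm _ _ _).symm, commutatorElement_eq_one_iff_mul_comm]
      exact (Subgroup.mem_center_iff.mp hx y).symm
  obtain ⟨e, he⟩ := IsPGroup.iff_card.mp hG
  have hp1 : ∀ x y : G, ⁅x, y⁆ ^ p = 1 := hexp e fun x y => by
    rw [← orderOf_dvd_iff_pow_eq_one]
    exact (he ▸ orderOf_dvd_natCard ⁅x, y⁆).trans (pow_dvd_pow p (by omega))
  have hΦ : frattini G ≤ Subgroup.center G := by
    refine frattini_le_of_quotient (p := p) _ hGZ fun g => ?_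
    rw [Subgroup.mem_center_iff]
    intro h
    exact (commutatorElement_eq_one_iff_mul_comm.mp (by rw [commutator_pow_left (hcomm _ _ _).symm]; exact hp1 g h)).symm
  -- fixed points lie in the commutator subgroup
  have hfix : ∀ g : G, (∀ a ∈ A, a g = g) → g ∈ commutator G := by
    intro g hg
    let φ : A →* MulAut (Abelianization G) :=
      MonoidHom.mk' (fun a => MulEquiv.abelianizationCongr (a : MulAut G)) fun a b => by
        ext v
        obtain ⟨x, rfl⟩ := QuotientGroup.mk_surjective v
        rfl
    haveI : Finite (Abelianization G) := Quotient.finite _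
    have hgen : Subgroup.closure {x : Abelianization G | ∃ v, ∃ a : A, x = v⁻¹ * φ a v} = ⊤ := by
      rw [eq_top_iff]
      calc (⊤ : Subgroup (Abelianization G))
          = (Subgroup.closure {x : G | ∃ g : G, ∃ a ∈ A, x = g⁻¹ * a g}).map Abelianization.of := by
            rw [hGA, Subgroup.map_top_of_surjective]
            exact QuotientGroup.mk_surjective
        _ ≤ _ := by
            rw [MonoidHom.map_closure]
            apply Subgroup.closure_mono
            rintro _ ⟨_, ⟨x, a, ha, rfl⟩, rfl⟩
            exact ⟨Abelianization.of x, ⟨a, ha⟩, by rw [map_mul, map_inv]; rfl⟩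
    have := eq_one_of_fixed_of_generates
      (hG.of_surjective Abelianization.of QuotientGroup.mk_surjective) φ hA hgen
      (v := Abelianization.of g) (fun a => congrArg Abelianization.of (hg a a.2))
    exact (QuotientGroup.eq_one_iff g).mp this
  have hZfix : ∀ g ∈ Subgroup.center G, ∀ a ∈ A, a g = g := fun g hg a ha =>
    hchar _ inferInstance inferInstance a ha g hg
  have hZ : Subgroup.center G ≤ commutator G := fun g hg => hfix g (hZfix g hg)
  refine ⟨⟨hG, le_antisymm hΦ (hZ.trans (commutator_le_frattini hG)), le_antisymm hGZ hZ⟩, fun g => ?_⟩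
  exact ⟨fun h => hZfix g h, fun h => hGZ (hfix g h)⟩

end H6
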