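import Cfsg.Agent.H6.FusionZJ

/-!
A Glauberman functor controls strong fusion.

`W` is a functor on subgroups which is normal in groups `L` with `C_L(O_p(L)) ≤ O_p(L)` lying in a class `Φ`
closed under subgroups and quotients; then for `G` in `Φ`, `N_G(W(D))` realizes all fusion in a Sylow subgroup.
-/

set_option autoImplicit false
set_option linter.all false

open Subgroup
open scoped commutatorElement Pointwise

universe u

namespace H6

/-- The admissible subgroups: strongly closed ones, or the Sylow subgroup only. -/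
def AdmPair (full : Prop) {G : Type u} [Group G] (P D : Subgroup G) : Prop :=
  Cfsg.IsStronglyClosed D P ∧ (full ∨ D = P)

/-- A class of groups closed under subgroups and quotients. -/
structure HeredClass (Φ : ∀ (L : Type u) [Group L] [Finite L], Prop) : Prop where
  sub : ∀ {L : Type u} [Group L] [Finite L] (M : Subgroup L), Φ L → Φ M
  quot : ∀ {L : Type u} [Group L] [Finite L] (N : Subgroup L) [N.Normal], Φ L → Φ (L ⧸ N)

/-- A Glauberman functor for the class `Φ`. -/
structure GFunctor (p : ℕ) (Φ : ∀ (L : Type u) [Group L] [Finite L], Prop) (full : Prop)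
    (W : ∀ {L : Type u} [Group L] [Finite L], Subgroup L → Subgroup L) : Prop where
  le : ∀ {L : Type u} [Group L] [Finite L] (D : Subgroup L), W D ≤ D
  normalizer_le : ∀ {L : Type u} [Group L] [Finite L] (D : Subgroup L),
    normalizer (D : Set L) ≤ normalizer (W D : Set L)
  map_eq : ∀ {X Y : Type u} [Group X] [Finite X] [Group Y] [Finite Y] (f : X →* Y) {D : Subgroup X},
    IsPGroup p D → (∀ x ∈ D, f x = 1 → x = 1) → (W D).map f = W (D.map f)
  ne_bot : ∀ {L : Type u} [Group L] [Finite L] {D : Subgroup L}, IsPGroup p D → D ≠ ⊥ → W D ≠ ⊥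
  normal : ∀ {L : Type u} [Group L] [Finite L], Φ L →
    centralizer (Cfsg.pCore p L : Set L) ≤ Cfsg.pCore p L →
    ∀ (S : Sylow p L) (D : Subgroup L), AdmPair full (S : Subgroup L) D → (W D).Normal

variable {p : ℕ} [Fact p.Prime] {Φ : ∀ (L : Type u) [Group L] [Finite L], Prop} {full : Prop}
  {W : ∀ {L : Type u} [Group L] [Finite L], Subgroup L → Subgroup L}

theorem AdmPair.subgroupOf {G : Type u} [Group G] {P D : Subgroup G} (h : AdmPair full P D)
    (M : Subgroup G) : AdmPair full ((P.subgroupOf M)) ((D.subgroupOf M)) :=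
  ⟨⟨comap_mono h.1.1, fun x hx y hy => h.1.2 _ hx (y : G) hy⟩, h.2.imp_right fun e => by rw [e]⟩

theorem AdmPair.inf {G : Type u} [Group G] {P D S : Subgroup G} (h : AdmPair full P D)
    (hS : S ≤ P) : AdmPair full S (D ⊓ S) :=
  ⟨⟨inf_le_right, fun x hx y hy => ⟨h.1.2 x hx.1 y (hS hy), hy⟩⟩,
    h.2.imp_right fun e => by rw [e, inf_of_le_right hS]⟩

variable {G : Type u} [Group G] [Finite G]

/-- The constrained case. -/
theorem GFunctor.fusionIn_constrained (F : GFunctor p Φ full W)
    (hquot : ∀ {L : Type u} [Group L] [Finite L] (N : Subgroup L) [N.Normal], Φ L → Φ (L ⧸ N))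
    (hΦ : Φ G) (P : Sylow p G) (D : Subgroup G) (hD : AdmPair full (P : Subgroup G) D)
    (hc : (P : Subgroup G) ⊓ centralizer (Cfsg.pCore p G : Set G) ≤ Cfsg.pCore p G) :
    FusionIn (P : Subgroup G) (normalizer (W D : Set G)) := by
  set Q := Cfsg.pCore p G with hQ
  haveI hQn : Q.Normal := H1.pCore_normal' p G
  set K := Cfsg.pPrimeCore p G with hK
  haveI hKn : K.Normal := H1.pPrimeCore_normal' p G
  have hKc : (Nat.card K).Coprime p := H1.card_pPrimeCore_coprime p G
  have hQp : IsPGroup p Q := H1.isPGroup_pCore p G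
  set C := centralizer (Q : Set G) with hC
  haveI hCn : C.Normal := normalizer_eq_top_iff.mp (top_le_iff.mp (by
    have := normalizer_le_normalizer_centralizer Q
    rwa [normalizer_eq_top] at this))
  -- `C_G(Q)` is a central `p`-group times a `p'`-group
  obtain ⟨S, hS⟩ := exists_sylow_inf P C
  have hScent : normalizer ((S : Subgroup C) : Set C) ≤ centralizer ((S : Subgroup C) : Set C) := by
    intro c _
    refine mem_centralizer_iff.mpr fun s hs => Subtype.ext ?_
    have h1 : ((s : C) : G) ∈ Q := hc (hS ▸ ⟨s, hs, rfl⟩)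
    exact mem_centralizer_iff.mp c.2 _ h1
  set L := (MonoidHom.transferSylow S hScent).ker with hL
  have hcompl := MonoidHom.ker_transferSylow_isComplement' S hScent
  have hLc : (Nat.card L).Coprime p :=
    ((Fact.out : p.Prime).coprime_iff_not_dvd.mpr
      (MonoidHom.not_dvd_card_ker_transferSylow S hScent)).symm
  have hLmem : ∀ c : C, Nat.Coprime (orderOf c) p → c ∈ L := by
    intro c hco
    rw [hL, MonoidHom.mem_ker]
    obtain ⟨k, hk⟩ := S.isPGroup' (MonoidHom.transferSylow S hScent c)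
    exact orderOf_eq_one_iff.mp (Nat.eq_one_of_dvd_coprimes (hco.pow_right k)
      (orderOf_map_dvd _ c) (orderOf_dvd_of_pow_eq_one hk))
  have hLn : (L.map C.subtype).Normal := by
    refine ⟨?_⟩
    rintro _ ⟨c, hc', rfl⟩ g
    refine ⟨⟨g * c * g⁻¹, hCn.conj_mem _ c.2 g⟩, hLmem _ ?_, rfl⟩
    rw [← Subgroup.orderOf_coe]
    show Nat.Coprime (orderOf (g * (c : G) * g⁻¹)) p
    rw [show g * (c : G) * g⁻¹ = MulAut.conj g (c : G) from rfl, MulEquiv.orderOf_eq,
      Subgroup.orderOf_coe]
    exact hLc.coprime_dvd_left (Subgroup.orderOf_dvd_natCard (s := L) hc')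
  have hLK : L.map C.subtype ≤ K := by
    haveI := hLn
    exact H1.le_pPrimeCore (by rwa [card_map_of_injective C.subtype_injective])
  set π := QuotientGroup.mk' K with hπ
  have hπs : Function.Surjective π := QuotientGroup.mk'_surjective K
  have hone : ∀ x ∈ K, π x = 1 := fun x hx => (QuotientGroup.eq_one_iff x).mpr hx
  have hcQ : ∀ x, π x ∈ centralizer ((Q.map π : Subgroup (G ⧸ K)) : Set (G ⧸ K)) →
      π x ∈ Q.map π := by
    intro x hx
    have hxC : x ∈ C := by
      refine mem_centralizer_iff.mpr fun q hq => ?_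
      have h1 : x * q * x⁻¹ * q⁻¹ ∈ K := by
        refine (QuotientGroup.eq_one_iff _).mp ?_
        show π (x * q * x⁻¹ * q⁻¹) = 1
        rw [map_mul, map_mul, map_mul, map_inv, map_inv,
          ← mem_centralizer_iff.mp hx (π q) ⟨q, hq, rfl⟩]
        group
      have h2 := H79.inf_eq_one_of_coprime hKc hQp h1
        (Q.mul_mem (hQn.conj_mem q hq x) (Q.inv_mem hq))
      calc q * x = (x * q * x⁻¹ * q⁻¹) * q * x := by rw [h2, one_mul]
        _ = x * q := by group
    obtain ⟨⟨⟨l, hl⟩, ⟨s, hs⟩⟩, hls⟩ := hcompl.2 ⟨x, hxC⟩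
    have hx' : x = (l : G) * (s : G) := (congrArg Subtype.val hls).symm
    rw [hx', map_mul, show π (l : G) = 1 from hone _ (hLK ⟨l, hl, rfl⟩), one_mul]
    exact ⟨_, hc (hS ▸ ⟨s, hs, rfl⟩), rfl⟩
  have hQmap : Q.map π ≤ Cfsg.pCore p (G ⧸ K) := by
    haveI := hQn.map π hπs
    exact H1.le_pCore (hQp.map π)
  have hcore : centralizer (Cfsg.pCore p (G ⧸ K) : Set (G ⧸ K)) ≤ Cfsg.pCore p (G ⧸ K) := by
    intro y hy
    obtain ⟨x, rfl⟩ := hπs y
    exact hQmap (hcQ x (centralizer_le hQmap hy))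
  refine fusionIn_of_normal_mod P K hKc _ ((F.le D).trans hD.1.1) ?_ ?_
  · refine le_trans ?_ (F.normalizer_le D)
    exact H79.le_normalizer_of_conj_mem fun s hs x hx => hD.1.2 x hx s
      ((P : Subgroup G).mul_mem ((P : Subgroup G).mul_mem hs (hD.1.1 hx)) ((P : Subgroup G).inv_mem hs))
  have hinjP : ∀ x ∈ D, π x = 1 → x = 1 := fun x hx h =>
    H79.inf_eq_one_of_coprime hKc P.isPGroup' ((QuotientGroup.eq_one_iff x).mp h) (hD.1.1 hx)
  rw [F.map_eq π (P.isPGroup'.to_le hD.1.1) hinjP]
  refine F.normal (hquot K hΦ) hcore (P.mapSurjective hπs) (D.map π) ?_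
  rw [Sylow.coe_mapSurjective]
  exact ⟨H79.map_stronglyClosed P D hD.1 K hKc, hD.2.imp_right fun e => by rw [e]⟩

/-- Fusion in a smaller overgroup of the Sylow subgroup. -/
theorem GFunctor.induced_of_over (F : GFunctor p Φ full W) (P : Sylow p G) (D : Subgroup G)
    (hDP : D ≤ (P : Subgroup G)) (M : Subgroup G) (hPM : (P : Subgroup G) ≤ M)
    (hM : FusionIn ((P : Subgroup G).subgroupOf M) (normalizer (W (D.subgroupOf M) : Set M)))
    (U : Subgroup G) (hU : U ≤ (P : Subgroup G)) (g : G) (hgM : g ∈ M)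
    (hg : ∀ u ∈ U, g * u * g⁻¹ ∈ (P : Subgroup G)) :
    ∃ x ∈ normalizer (W D : Set G), ∀ u ∈ U, g * u * g⁻¹ = x * u * x⁻¹ := by
  obtain ⟨x, hx, hx'⟩ := hM (U.subgroupOf M) (comap_mono hU) ⟨g, hgM⟩ (fun u hu => hg _ hu)
  refine ⟨x, ?_, fun u hu => congrArg Subtype.val (hx' ⟨u, hPM (hU hu)⟩ hu)⟩
  have h := F.map_eq M.subtype (D := D.subgroupOf M)
    ((P.isPGroup'.to_le hDP).comap_of_injective M.subtype M.subtype_injective)
    (fun y _ hy => M.subtype_injective (hy.trans (map_one _).symm))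
  rw [map_subgroupOf_eq_of_le (hDP.trans hPM)] at h
  rw [← h]
  exact le_normalizer_map _ ⟨x, hx, rfl⟩

/-- A Glauberman functor controls strong fusion. -/
theorem GFunctor.fusionIn (F : GFunctor p Φ full W) (hh : HeredClass Φ) :
    ∀ (n : ℕ) (G : Type u) [Group G] [Finite G], Nat.card G ≤ n → Φ G →
    ∀ (P : Sylow p G) (D : Subgroup G), AdmPair full (P : Subgroup G) D →
      FusionIn (P : Subgroup G) (normalizer (W D : Set G)) := by
  intro n
  induction n with
  | zero => intro G _ _ hn; exact absurd (Nat.card_pos (α := G)) (by omega)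
  | succ n ih =>
  intro G _ _ hn hΦ P D hD
  have hPD : (P : Subgroup G) ≤ normalizer (D : Set G) :=
    H79.le_normalizer_of_conj_mem fun s hs x hx => hD.1.2 x hx s
      ((P : Subgroup G).mul_mem ((P : Subgroup G).mul_mem hs (hD.1.1 hx)) ((P : Subgroup G).inv_mem hs))
  by_cases hD1 : D = ⊥
  · intro U hU g hg
    refine ⟨g, ?_, fun u _ => rfl⟩
    rw [show W D = ⊥ from le_bot_iff.mp ((F.le D).trans hD1.le), normalizer_eq_top]
    exact mem_top g
  have hsub : ∀ M : Subgroup G, M ≠ ⊤ → ∀ (S : Sylow p M) (D' : Subgroup M),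
      AdmPair full (S : Subgroup M) D' → FusionIn (S : Subgroup M) (normalizer (W D' : Set M)) := by
    intro M hM S D' hD'
    have := lt_of_le_of_ne (card_le_card_group M) fun e => hM (eq_top_of_card_eq M e)
    exact ih M (by omega) (hh.sub M hΦ) S D' hD'
  have hover : ∀ M : Subgroup G, M ≠ ⊤ → (P : Subgroup G) ≤ M → ∀ U : Subgroup G,
      U ≤ (P : Subgroup G) → ∀ g ∈ M, (∀ u ∈ U, g * u * g⁻¹ ∈ (P : Subgroup G)) →
      ∃ x ∈ normalizer (W D : Set G), ∀ u ∈ U, g * u * g⁻¹ = x * u * x⁻¹ := by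
    intro M hM hPM U hU g hgM hg
    refine F.induced_of_over P D hD.1.1 M hPM ?_ U hU g hgM hg
    rw [← Sylow.coe_subtype (h := hPM)]
    exact hsub M hM _ _ (by rw [Sylow.coe_subtype]; exact hD.subgroupOf M)
  set Q := Cfsg.pCore p G with hQdef
  haveI hQn : Q.Normal := H1.pCore_normal' p G
  have hQp : IsPGroup p Q := H1.isPGroup_pCore p G
  have hQP : Q ≤ (P : Subgroup G) := H1.pCore_le_sylow P
  by_cases hQ1 : Q = ⊥
  · intro U hU g hg
    have hFP : W (D ⊓ (P : Subgroup G)) = W D := by rw [inf_of_le_left hD.1.1]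
    rw [← hFP]
    refine H79.induced_of_local P (fun S => W (D ⊓ S))
      (fun S _ => (F.le _).trans inf_le_right) ?_ ?_ ?_ U hU g hg
    · intro S hS
      refine le_trans ?_ (F.normalizer_le _)
      refine H79.le_normalizer_of_conj_mem fun x hx y hy => ?_
      have h1 : x * y * x⁻¹ ∈ S := (mem_normalizer_iff.mp hx y).mp hy.2
      exact ⟨hD.1.2 y hy.1 x (hS h1), h1⟩
    · intro T hTP hT1 _
      refine F.ne_bot (P.isPGroup'.to_le (inf_le_right.trans inf_le_left)) ?_
      haveI : (D.subgroupOf (P : Subgroup G)).Normal := normal_subgroupOf_of_le_normalizer hPD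
      have hne : D.subgroupOf (P : Subgroup G) ≠ ⊥ := by
        intro h
        rw [subgroupOf_eq_bot, disjoint_iff, inf_of_le_left hD.1.1] at h
        exact hD1 h
      obtain ⟨z, hzD, hzc, hzp⟩ := H6.exists_mem_center_orderOf P.isPGroup' hne
      intro h0
      have hzT : (z : G) ∈ normalizer (T : Set G) := by
        apply centralizer_le_normalizer
        refine mem_centralizer_iff.mpr fun t ht => ?_
        exact congrArg Subtype.val (mem_center_iff.mp hzc ⟨t, hTP ht⟩)
      have hmem : (z : G) ∈ D ⊓ ((P : Subgroup G) ⊓ normalizer (T : Set G)) :=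
        ⟨hzD, z.2, hzT⟩
      rw [h0, mem_bot] at hmem
      rw [show z = 1 from Subtype.ext hmem, orderOf_one] at hzp
      exact (Fact.out : p.Prime).ne_one hzp.symm
    · intro T hT hT1 hfull n₀ hn₀ U hU hnU
      set N := normalizer (T : Set G) with hN
      have hNtop : N ≠ ⊤ := fun e => by
        haveI : T.Normal := normalizer_eq_top_iff.mp e
        exact hT1 (le_bot_iff.mp (hQ1 ▸ H1.le_pCore (P.isPGroup'.to_le hT)))
      have hSp : IsPGroup p (((P : Subgroup G) ⊓ N).subgroupOf N) :=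
        (P.isPGroup'.to_inf_left).comap_of_injective N.subtype N.subtype_injective
      obtain ⟨S, hS⟩ := hSp.exists_le_sylow
      have hSeq : (S : Subgroup N) = ((P : Subgroup G) ⊓ N).subgroupOf N := by
        refine (eq_of_le_of_card_ge hS ?_).symm
        rw [Nat.card_congr (subgroupOfEquivOfLe (inf_le_right : (P : Subgroup G) ⊓ N ≤ N)).toEquiv,
          ← card_map_of_injective N.subtype_injective]
        exact hfull _ (S.isPGroup'.map _) (map_subtype_le _)
      have hadm : AdmPair full (S : Subgroup N)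
          ((D ⊓ ((P : Subgroup G) ⊓ N)).subgroupOf N) := by
        rw [hSeq]
        exact (hD.inf inf_le_left).subgroupOf N
      obtain ⟨m, hm, hm'⟩ := hsub N hNtop S _ hadm (U.subgroupOf N) (hSeq ▸ comap_mono hU) ⟨n₀, hn₀⟩
        (fun u hu => by
          rw [hSeq, mem_subgroupOf]
          exact hnU u hu)
      refine ⟨(m : G), ⟨m.2, ?_⟩, fun u hu => congrArg Subtype.val (hm' ⟨u, (hU hu).2⟩ hu)⟩
      show (m : G) ∈ normalizer (W (D ⊓ ((P : Subgroup G) ⊓ N)) : Set G)
      rw [show D ⊓ ((P : Subgroup G) ⊓ N) = ((D ⊓ ((P : Subgroup G) ⊓ N)).subgroupOf N).map N.subtype from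
        (map_subgroupOf_eq_of_le (inf_le_right.trans inf_le_right)).symm,
        ← F.map_eq N.subtype (D := (D ⊓ ((P : Subgroup G) ⊓ N)).subgroupOf N) ((P.isPGroup'.to_le (inf_le_right.trans inf_le_left)).comap_of_injective
          N.subtype N.subtype_injective) (fun x _ hx => N.subtype_injective (hx.trans (map_one _).symm))]
      exact le_normalizer_map _ ⟨m, hm, rfl⟩
  set C := centralizer (Q : Set G) with hC
  by_cases hcon : (P : Subgroup G) ⊓ C ≤ Q
  · exact F.fusionIn_constrained (fun N _ h => hh.quot N h) hΦ P D hD hcon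
  haveI hCn : C.Normal := normalizer_eq_top_iff.mp (top_le_iff.mp (by
    have := normalizer_le_normalizer_centralizer Q
    rwa [normalizer_eq_top] at this))
  have hND : normalizer (((P : Subgroup G) ⊓ C : Subgroup G) : Set G) ≠ ⊤ := fun e => by
    haveI := normalizer_eq_top_iff.mp e
    exact hcon (H1.le_pCore P.isPGroup'.to_inf_left)
  by_cases hCP : C ⊔ (P : Subgroup G) = ⊤
  swap
  · refine fusionIn_of_split P C _ (fun U hU g hg hg' => hover _ hCP le_sup_right U hU g hg hg')
      (fun U hU g hg hg' => hover _ hND ?_ U hU g hg hg')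
    exact H79.le_normalizer_of_conj_mem fun s hs x hx =>
      ⟨(P : Subgroup G).mul_mem ((P : Subgroup G).mul_mem hs hx.1) ((P : Subgroup G).inv_mem hs),
        hCn.conj_mem x hx.2 s⟩
  by_cases hDQ : D ≤ Q
  · intro U hU g hg
    refine ⟨g, F.normalizer_le D ?_, fun u _ => rfl⟩
    refine mem_normalizer_iff_map_conj_eq.mpr (eq_of_le_of_card_ge ?_
      (by rw [card_map_of_injective (MulAut.conj g).injective]))
    rintro _ ⟨x, hx, rfl⟩
    exact hD.1.2 x hx g (hQP (hQn.conj_mem x (hDQ hx) g))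
  -- `G = C_G(Q) P`: lift control of fusion from `G / Q`
  set π := QuotientGroup.mk' Q with hπ
  have hπs : Function.Surjective π := QuotientGroup.mk'_surjective Q
  set P' := P.mapSurjective hπs with hP'
  have hP'coe : (P' : Subgroup (G ⧸ Q)) = (P : Subgroup G).map π := Sylow.coe_mapSurjective _ _
  have hadm' : AdmPair full (P' : Subgroup (G ⧸ Q)) (D.map π) := by
    rw [hP'coe]
    refine ⟨⟨map_mono hD.1.1, ?_⟩, hD.2.imp_right fun e => by rw [e]⟩
    rintro _ ⟨x, hx, rfl⟩ y hy
    obtain ⟨g, rfl⟩ := hπs y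
    rw [← map_mul, ← map_inv, ← map_mul] at hy ⊢
    obtain ⟨t, ht, hte⟩ := hy
    refine ⟨_, hD.1.2 x hx g ?_, rfl⟩
    have h1 : t⁻¹ * (g * x * g⁻¹) ∈ Q := QuotientGroup.eq.mp hte
    have h2 := (P : Subgroup G).mul_mem ht (hQP h1)
    rwa [mul_inv_cancel_left] at h2
  set W' := W (D.map π) with hW'
  set H := (normalizer (W' : Set (G ⧸ Q))).comap π with hH
  have hPH : (P : Subgroup G) ≤ H := by
    rw [hH, ← map_le_iff_le_comap]
    exact ((map_mono hPD).trans (le_normalizer_map π)).trans (F.normalizer_le _)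
  have hHtop : H ≠ ⊤ := by
    intro e
    haveI : W'.Normal := normalizer_eq_top_iff.mp (by
      rw [← map_comap_eq_self_of_surjective hπs (normalizer (W' : Set (G ⧸ Q))), ← hH, e,
        map_top_of_surjective π hπs])
    haveI : (W'.comap π).Normal := Subgroup.Normal.comap inferInstance π
    have hle : W'.comap π ≤ Q := H1.le_pCore
      (((P.isPGroup'.to_le hD.1.1).map π).to_le (F.le _) |>.comap_of_ker_isPGroup π
        (by rw [QuotientGroup.ker_mk']; exact hQp))
    have hD'1 : D.map π ≠ ⊥ := fun e1 => hDQ (by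
      rwa [Subgroup.map_eq_bot_iff, QuotientGroup.ker_mk'] at e1)
    refine F.ne_bot ((P.isPGroup'.to_le hD.1.1).map π) hD'1 (eq_bot_iff.mpr fun y hy => ?_)
    obtain ⟨x, rfl⟩ := hπs y
    exact mem_bot.mpr ((QuotientGroup.eq_one_iff x).mpr (hle hy))
  have hIH := ih (G ⧸ Q) (by
    have h1 := card_eq_card_quotient_mul_card_subgroup Q
    have h2 : 1 < Nat.card Q := Q.one_lt_card_iff_ne_bot.mpr hQ1
    have h3 : 0 < Nat.card (G ⧸ Q) := Nat.card_pos
    nlinarith) (hh.quot Q hΦ) P' (D.map π) hadm'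
  have hlift : FusionIn (P : Subgroup G) H := by
    refine fusionIn_of_full P H Q hQP ?_
    intro T hQT hTP hfull t₀ ht₀
    obtain ⟨x', hx', hx''⟩ := hIH (T.map π) (by rw [hP'coe]; exact map_mono hTP) (π t₀) (by
      rintro _ ⟨t, ht, rfl⟩
      rw [hP'coe, ← map_mul, ← map_inv, ← map_mul]
      exact ⟨_, hTP ((mem_normalizer_iff.mp ht₀ t).mp ht), rfl⟩)
    obtain ⟨x, rfl⟩ := hπs x'
    set y := x⁻¹ * t₀ with hy
    have hmod : ∀ t ∈ T, y * t * y⁻¹ * t⁻¹ ∈ Q := by
      intro t ht
      refine (QuotientGroup.eq_one_iff _).mp ?_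
      show π (y * t * y⁻¹ * t⁻¹) = 1
      rw [hy, show x⁻¹ * t₀ * t * (x⁻¹ * t₀)⁻¹ * t⁻¹ = x⁻¹ * (t₀ * t * t₀⁻¹) * x * t⁻¹ by group,
        map_mul, map_mul, map_mul, map_mul, map_mul, map_inv, map_inv, map_inv,
        hx'' _ ⟨t, ht, rfl⟩]
      group
    set N := normalizer (T : Set G) with hN
    have hyN : y ∈ N := by
      refine mem_normalizer_iff_map_conj_eq.mpr (eq_of_le_of_card_ge ?_
        (by rw [card_map_of_injective (MulAut.conj y).injective]))
      rintro _ ⟨t, ht, rfl⟩
      show y * t * y⁻¹ ∈ T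
      rw [show y * t * y⁻¹ = (y * t * y⁻¹ * t⁻¹) * t by group]
      exact T.mul_mem (hQT (hmod t ht)) ht
    have hSp : IsPGroup p (((P : Subgroup G) ⊓ N).subgroupOf N) :=
      (P.isPGroup'.to_inf_left).comap_of_injective N.subtype N.subtype_injective
    obtain ⟨S, hS⟩ := hSp.exists_le_sylow
    have hSeq : (S : Subgroup N) = ((P : Subgroup G) ⊓ N).subgroupOf N := by
      refine (eq_of_le_of_card_ge hS ?_).symm
      rw [Nat.card_congr (subgroupOfEquivOfLe (inf_le_right : (P : Subgroup G) ⊓ N ≤ N)).toEquiv,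
        ← card_map_of_injective N.subtype_injective]
      exact hfull _ (S.isPGroup'.map _) (map_subtype_le _)
    haveI := H5.centralizer_subgroupOf_normalizer_normal T
    set ρ := QuotientGroup.mk' ((centralizer (T : Set G)).subgroupOf N) with hρ
    have hρs : Function.Surjective ρ := QuotientGroup.mk'_surjective _
    -- the elements of `N` centralizing `T / Q`
    let A : Subgroup N :=
      { carrier := {a | ∀ t ∈ T, (a : G) * t * (a : G)⁻¹ * t⁻¹ ∈ Q}
        one_mem' := fun t _ => by simp [Q.one_mem]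
        mul_mem' := fun {a b} ha hb t ht => by
          have h1 := ha _ ((mem_normalizer_iff.mp b.2 t).mp ht)
          have h2 := hb t ht
          have e : ((a * b : N) : G) * t * ((a * b : N) : G)⁻¹ * t⁻¹ =
              ((a : G) * ((b : G) * t * (b : G)⁻¹) * (a : G)⁻¹ * ((b : G) * t * (b : G)⁻¹)⁻¹) *
                ((b : G) * t * (b : G)⁻¹ * t⁻¹) := by
            push_cast; group
          rw [e]
          exact Q.mul_mem h1 h2
        inv_mem' := fun {a} ha t ht => by
          have h1 := ha _ ((mem_normalizer_iff''.mp a.2 t).mp ht)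
          have e : ((a⁻¹ : N) : G) * t * ((a⁻¹ : N) : G)⁻¹ * t⁻¹ =
              ((a : G) * ((a : G)⁻¹ * t * (a : G)) * (a : G)⁻¹ * ((a : G)⁻¹ * t * (a : G))⁻¹)⁻¹ := by
            push_cast; group
          rw [e]
          exact Q.inv_mem h1 }
    haveI hAn : A.Normal := by
      refine ⟨fun a ha g t ht => ?_⟩
      have h1 := hQn.conj_mem _ (ha _ ((mem_normalizer_iff''.mp g.2 t).mp ht)) (g : G)
      have e : ((g * a * g⁻¹ : N) : G) * t * ((g * a * g⁻¹ : N) : G)⁻¹ * t⁻¹ =
          (g : G) * ((a : G) * ((g : G)⁻¹ * t * (g : G)) * (a : G)⁻¹ * ((g : G)⁻¹ * t * (g : G))⁻¹) *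
            (g : G)⁻¹ := by
        push_cast; group
      rw [e]
      exact h1
    have hAp : IsPGroup p (A.map ρ) := by
      rintro ⟨_, a, ha, rfl⟩
      obtain ⟨u, v, huv, ⟨k, hk⟩, hv, -, hva⟩ := H5.exists_p_decomposition (p := p) a
      have hvA : v ∈ A := (zpowers_le.mpr ha) hva
      have hvC : (v : G) ∈ C := by
        set σ := QuotientGroup.mk' C
        have hσ : IsPGroup p (G ⧸ C) := by
          intro z
          obtain ⟨g, rfl⟩ := QuotientGroup.mk'_surjective C z
          have h1 : σ g ∈ (P : Subgroup G).map σ := by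
            have h2 : g ∈ C ⊔ (P : Subgroup G) := hCP ▸ mem_top g
            have h3 : σ g ∈ (C ⊔ (P : Subgroup G)).map σ := ⟨g, h2, rfl⟩
            rwa [Subgroup.map_sup, QuotientGroup.map_mk'_self, bot_sup_eq] at h3
          obtain ⟨k, hk⟩ := (P.isPGroup'.map σ) ⟨_, h1⟩
          exact ⟨k, congrArg Subtype.val hk⟩
        refine (QuotientGroup.eq_one_iff _).mp ?_
        obtain ⟨k, hk⟩ := hσ (QuotientGroup.mk (v : G))
        exact orderOf_eq_one_iff.mp (Nat.eq_one_of_dvd_coprimes
          ((hv.coprime_dvd_left (orderOf_map_dvd ((QuotientGroup.mk' C).comp N.subtype) v)).pow_right k)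
          dvd_rfl (orderOf_dvd_of_pow_eq_one hk))
      have hvT : v ∈ (centralizer (T : Set G)).subgroupOf N := by
        refine mem_subgroupOf.mpr (mem_centralizer_iff.mpr fun t ht => ?_)
        have hdisp : t⁻¹ * ((v : G) * t * (v : G)⁻¹) ∈ Q := by
          have := hQn.conj_mem _ (hvA t ht) t⁻¹
          simpa [mul_assoc] using this
        have h := H11.conj_eq_self_of_displacement_fixed (p := p) (k := (v : G)) (x := t)
          (by rwa [Subgroup.orderOf_coe]) (by
            obtain ⟨m, hm⟩ := hQp ⟨_, hdisp⟩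
            exact ⟨m, congrArg Subtype.val hm⟩)
          (by rw [← mem_centralizer_iff.mp hvC _ hdisp, mul_inv_cancel_right])
        calc t * (v : G) = (v : G) * t * (v : G)⁻¹ * (v : G) := by rw [h]
          _ = (v : G) * t := by group
      refine ⟨k, Subtype.ext ?_⟩
      show ρ a ^ p ^ k = 1
      rw [huv, map_mul, show ρ v = 1 from (QuotientGroup.eq_one_iff v).mpr hvT, mul_one, ← map_pow,
        hk, map_one]
    haveI := hAn.map ρ hρs
    obtain ⟨s, hs, hse⟩ : ρ ⟨y, hyN⟩ ∈ (S : Subgroup N).map ρ := by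
      rw [← Sylow.coe_mapSurjective hρs S]
      exact IsPGroup.le_sylow_of_normal hAp (S.mapSurjective hρs) ⟨⟨y, hyN⟩, hmod, rfl⟩
    have hsP : (s : G) ∈ (P : Subgroup G) := by
      rw [hSeq] at hs
      exact hs.1
    refine ⟨x * (s : G), H.mul_mem hx' (hPH hsP), fun t ht => ?_⟩
    have h1 : s⁻¹ * ⟨y, hyN⟩ ∈ (centralizer (T : Set G)).subgroupOf N :=
      (QuotientGroup.eq).mp hse
    have h2 : t * ((s : G)⁻¹ * y) = (s : G)⁻¹ * y * t :=
      mem_centralizer_iff.mp (mem_subgroupOf.mp h1) t ht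
    calc t₀ * t * t₀⁻¹ = x * (s : G) * (((s : G)⁻¹ * y) * t) * ((s : G)⁻¹ * y)⁻¹ * (x * (s : G))⁻¹ := by
          rw [hy]; group
      _ = _ := by rw [← h2]; group
  intro U hU g hg
  obtain ⟨x, hx, hx'⟩ := hlift U hU g hg
  obtain ⟨z, hz, hz'⟩ := hover H hHtop hPH U hU x hx (fun u hu => hx' u hu ▸ hg u hu)
  exact ⟨z, hz, fun u hu => (hx' u hu).trans (hz' u hu)⟩

end H6
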