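import Mathlib
import Cfsg.Agent.H16.Extend

/-!
Coherence through a pivot: adding members to a coherent set when their images have no component
along the coherent extension.
-/

set_option autoImplicit false
set_option linter.all false

open Cfsg
open scoped ComplexConjugate

namespace H6.PF911

open H16

universe u w

variable {L : Type u} [Group L] [Fintype L] {G : Type w} [Group G] [Fintype G]

section pivot

variable {τ : (L → ℂ) → (G → ℂ)} {S : Set (L → ℂ)} {U : Finset (L → ℂ)}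
  {σ : (L → ℂ) → (G → ℂ)} {e : (L → ℂ) → ℕ} {ψ : L → ℂ}

/-- The coefficients of `τ (χ - k ψ)` along a coherent extension on `U`. -/
theorem pivot_coeff (hτ : IsLinearIsometryOn (zspanOn S {1}ᶜ) τ) (hUS : ↑U ⊆ S)
    (hU1 : ∀ φ ∈ U, classInner φ φ = 1)
    (horth : ∀ φ ∈ U, ∀ φ' ∈ U, φ ≠ φ' → classInner φ φ' = 0)
    (hσ : IsLinearIsometryOn (zspan (↑U : Set (L → ℂ))) σ)
    (hσa : ∀ α ∈ zspanOn (↑U : Set (L → ℂ)) {1}ᶜ, σ α = τ α)
    (hψ : ψ ∈ U) (he : ∀ φ ∈ U, φ 1 = (e φ : ℂ) * ψ 1) (hψ0 : ψ 1 ≠ 0)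
    {χ : L → ℂ} (hχS : χ ∈ S) (hχU : ∀ φ ∈ U, classInner χ φ = 0)
    {n k : ℕ} (hn : classInner χ χ = (n : ℂ)) (hk : χ 1 = (k : ℂ) * ψ 1) :
    ∃ x : ℤ,
      classInner (τ (χ - (k : ℤ) • ψ)) (σ ψ) = (x : ℂ) - k ∧
      ∃ Z : G → ℂ, IsGeneralizedCharacter G Z ∧ (∀ φ ∈ U, classInner Z (σ φ) = 0) ∧
        classInner Z Z =
          (n : ℂ) + 2 * x * k - (x : ℂ) ^ 2 * ∑ φ ∈ U, (e φ : ℂ) ^ 2 ∧
        τ (χ - (k : ℤ) • ψ) = Z + x • (∑ φ ∈ U, (e φ : ℤ) • σ φ) - (k : ℤ) • σ ψ := by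
  classical
  have hψS := hUS hψ
  have e1 : e ψ = 1 := by
    have h := he ψ hψ
    have : ((e ψ : ℂ) - 1) * ψ 1 = 0 := by linear_combination -h
    rcases mul_eq_zero.mp this with h' | h'
    · exact_mod_cast sub_eq_zero.mp h'
    · exact absurd h' hψ0
  set β : L → ℂ := χ - (k : ℤ) • ψ with hβ
  have hβm : β ∈ zspanOn S {1}ᶜ := mem_zspanOn_one.mpr
    ⟨zspan_sub (zspan_of_mem hχS) (zspan_zsmul _ (zspan_of_mem hψS)), by simp [hβ, hk]⟩
  set Y := τ β with hY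
  have hYgen : IsGeneralizedCharacter G Y := hτ.2.2.2 β hβm
  have hσgen : ∀ φ ∈ U, IsGeneralizedCharacter G (σ φ) := fun φ hφ =>
    hσ.2.2.2 φ (zspan_of_mem hφ)
  obtain ⟨t, ht⟩ := gen_inner_int hYgen (hσgen ψ hψ)
  set x : ℤ := t + k with hx
  have hσin : ∀ φ ∈ U, ∀ φ' ∈ U, classInner (σ φ) (σ φ') = if φ = φ' then 1 else 0 := by
    intro φ hφ φ' hφ'
    rw [hσ.2.2.1 φ (zspan_of_mem hφ) φ' (zspan_of_mem hφ')]
    split_ifs with h
    · rw [← h, hU1 φ hφ]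
    · exact horth φ hφ φ' hφ' h
  have hco : ∀ φ ∈ U, classInner Y (σ φ) =
      (x : ℂ) * e φ - if φ = ψ then (k : ℂ) else 0 := by
    intro φ hφ
    by_cases h : φ = ψ
    · subst h
      rw [if_pos rfl, ht, e1, hx]; push_cast; ring
    rw [if_neg h, sub_zero]
    set θ : L → ℂ := φ - (e φ : ℤ) • ψ with hθ
    have hm : θ ∈ zspanOn (↑U : Set (L → ℂ)) {1}ᶜ := mem_zspanOn_one.mpr
      ⟨zspan_sub (zspan_of_mem hφ) (zspan_zsmul _ (zspan_of_mem hψ)), by simp [hθ, he φ hφ]⟩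
    have hin : classInner Y (τ θ) = classInner β θ :=
      hτ.2.2.1 β hβm θ (zspanOn_mono _ hUS hm)
    rw [← hσa θ hm, hθ, iso_sub' hσ (zspan_of_mem hφ) (zspan_zsmul _ (zspan_of_mem hψ)),
      hσ.2.1 _ (zspan_of_mem hψ)] at hin
    simp only [hβ, ci_sub_left, ci_sub_right, ci_zsmul_left, ci_zsmul_right, ht, hU1 ψ hψ,
      hχU φ hφ, hχU ψ hψ, horth ψ hψ φ hφ (Ne.symm h), Int.cast_natCast] at hin
    rw [hx]; push_cast
    linear_combination hin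
  refine ⟨x, by rw [hco ψ hψ, if_pos rfl, e1]; push_cast; ring, ?_⟩
  set P : G → ℂ := x • (∑ φ ∈ U, (e φ : ℤ) • σ φ) - (k : ℤ) • σ ψ with hP
  have hPσ : ∀ φ ∈ U, classInner P (σ φ) = classInner Y (σ φ) := by
    intro φ hφ
    rw [hco φ hφ, hP, ci_sub_left, ci_zsmul_left, ci_zsmul_left, ci_sum_left,
      Finset.sum_eq_single φ]
    · rw [ci_zsmul_left, hσin φ hφ φ hφ, if_pos rfl, hσin ψ hψ φ hφ]
      simp only [eq_comm (a := ψ)]
      split_ifs <;> push_cast <;> ring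
    · intro φ' hφ' hne
      rw [ci_zsmul_left, hσin φ' hφ' φ hφ, if_neg hne, mul_zero]
    · exact fun h => absurd hφ h
  have hPgen : IsGeneralizedCharacter G P :=
    gen_sub (gen_zsmul _ (gen_sum _ _ fun φ hφ => gen_zsmul _ (hσgen φ hφ)))
      (gen_zsmul _ (hσgen ψ hψ))
  set Z := Y - P with hZ
  have hZσ : ∀ φ ∈ U, classInner Z (σ φ) = 0 := fun φ hφ => by
    rw [hZ, ci_sub_left, hPσ φ hφ, sub_self]
  refine ⟨Z, gen_sub hYgen hPgen, hZσ, ?_,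
    by rw [add_sub_assoc, ← hP, hZ, sub_add_cancel]⟩
  have hZP : classInner Z P = 0 := by
    rw [hP, ci_sub_right, ci_zsmul_right, ci_zsmul_right, ci_sum_right, hZσ ψ hψ,
      Finset.sum_eq_zero fun φ hφ => by rw [ci_zsmul_right, hZσ φ hφ, mul_zero]]
    ring
  have hPY : classInner P Y = classInner P P := by
    have hY' : Y = Z + P := by rw [hZ, sub_add_cancel]
    rw [hY', ci_add_right, ci_symm Z P, hZP, map_zero, zero_add]
  have hYY : classInner Y Y = (n : ℂ) + (k : ℂ) ^ 2 := by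
    rw [hY, hτ.2.2.1 β hβm β hβm]
    simp only [hβ, ci_sub_left, ci_sub_right, ci_zsmul_left, ci_zsmul_right, hn, hU1 ψ hψ,
      hχU ψ hψ, Int.cast_natCast]
    rw [ci_symm χ ψ, hχU ψ hψ, map_zero]
    ring
  have hPP : classInner P P = (x : ℂ) ^ 2 * ∑ φ ∈ U, (e φ : ℂ) ^ 2 - 2 * x * k + (k : ℂ) ^ 2 := by
    have : classInner P P = classInner P (x • (∑ φ ∈ U, (e φ : ℤ) • σ φ) - (k : ℤ) • σ ψ) := by
      rw [← hP]
    rw [this, ci_sub_right, ci_zsmul_right, ci_zsmul_right, ci_sum_right,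
      Finset.sum_congr rfl (fun φ hφ => by rw [ci_zsmul_right, hPσ φ hφ, hco φ hφ]),
      hPσ ψ hψ, hco ψ hψ, if_pos rfl, e1]
    simp only [mul_sub, Finset.sum_sub_distrib, mul_ite, mul_zero, Finset.sum_ite_eq', if_pos hψ,
      Int.cast_natCast, e1]
    rw [Finset.mul_sum, Finset.mul_sum]
    have : ∀ φ ∈ U, (x : ℂ) * ((e φ : ℂ) * ((x : ℂ) * e φ)) = (x : ℂ) ^ 2 * (e φ : ℂ) ^ 2 :=
      fun φ _ => by ring
    rw [Finset.sum_congr rfl this]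
    push_cast; ring
  have hZY : classInner Z Y = classInner Y Y - classInner P P := by
    rw [hZ, ci_sub_left, hPY]
  have hZZ : classInner Z Z = classInner Z Y - classInner Z P := by
    conv_lhs => arg 2; rw [hZ]
    rw [ci_sub_right]
  rw [hZZ, hZP, sub_zero, hZY, hYY, hPP]
  ring

/-- If the coherent set is heavy enough there is no component. -/
theorem pivot_zero {n k W : ℕ} {x : ℤ} {Z : G → ℂ}
    (hZ : classInner Z Z = (n : ℂ) + 2 * x * k - (x : ℂ) ^ 2 * (W : ℂ))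
    (h : n + 2 * k < W) : x = 0 := by
  have h0 := ci_self_re_nonneg Z
  rw [hZ] at h0
  have e : ((n : ℂ) + 2 * x * k - (x : ℂ) ^ 2 * (W : ℂ)).re =
      (n : ℝ) + 2 * x * k - (x : ℝ) ^ 2 * W := by
    have : (n : ℂ) + 2 * x * k - (x : ℂ) ^ 2 * (W : ℂ) =
        (((n : ℝ) + 2 * x * k - (x : ℝ) ^ 2 * W : ℝ) : ℂ) := by push_cast; ring
    rw [this, Complex.ofReal_re]
  rw [e] at h0
  have hi : 0 ≤ (n : ℤ) + 2 * x * k - x ^ 2 * W := by exact_mod_cast h0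
  by_contra hx
  have hW : (n : ℤ) + 2 * k + 1 ≤ W := by exact_mod_cast h
  have h1 : 1 ≤ x ^ 2 := by
    rcases lt_or_gt_of_ne hx with h' | h' <;> nlinarith
  have hxx : x ≤ x ^ 2 := by rcases le_or_gt x 0 with h' | h' <;> nlinarith
  have h2 : x ^ 2 * ((n : ℤ) + 2 * k + 1) ≤ x ^ 2 * W := mul_le_mul_of_nonneg_left hW (by positivity)
  nlinarith [mul_nonneg (show (0 : ℤ) ≤ x ^ 2 - 1 by linarith) (show (0 : ℤ) ≤ n by positivity),
    mul_nonneg (show (0 : ℤ) ≤ x ^ 2 - x by linarith) (show (0 : ℤ) ≤ 2 * (k : ℤ) by positivity)]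

/-- A coherent set absorbs members whose images have no component along the extension. -/
theorem pivot_extend (hτ : IsLinearIsometryOn (zspanOn S {1}ᶜ) τ) {T : Set (L → ℂ)}
    (hTS : T ⊆ S) (hUT : ↑U ⊆ T) (hU1 : classInner ψ ψ = 1)
    (hσ : IsLinearIsometryOn (zspan (↑U : Set (L → ℂ))) σ)
    (hσa : ∀ α ∈ zspanOn (↑U : Set (L → ℂ)) {1}ᶜ, σ α = τ α)
    (hex : ∃ α ∈ zspanOn T {1}ᶜ, α ≠ 0)
    (hψ : ψ ∈ U) (hψ0 : ψ 1 ≠ 0) (he : ∀ φ ∈ T, φ 1 = (e φ : ℂ) * ψ 1)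
    (hnew : ∀ χ ∈ T, χ ∉ U → classInner χ ψ = 0 ∧
      classInner (τ (χ - (e χ : ℤ) • ψ)) (σ ψ) = -(e χ : ℂ)) :
    IsCoherent T {1}ᶜ τ := by
  refine coherent_of_pivot (iso_mono hτ (zspanOn_mono _ hTS)) ψ (hUT hψ) (ψ 1) rfl hψ0 (σ ψ)
    (hσ.2.2.2 ψ (zspan_of_mem hψ))
    (hσ.2.2.1 ψ (zspan_of_mem hψ) ψ (zspan_of_mem hψ)) hex fun φ hφ => ?_
  refine ⟨(e φ : ℤ), by rw [Int.cast_natCast, he φ hφ], ?_⟩
  by_cases h : φ ∈ U
  · have hm : φ - (e φ : ℤ) • ψ ∈ zspanOn (↑U : Set (L → ℂ)) {1}ᶜ := mem_zspanOn_one.mpr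
      ⟨zspan_sub (zspan_of_mem h) (zspan_zsmul _ (zspan_of_mem hψ)), by simp [he φ hφ]⟩
    rw [← hσa _ hm]
    exact hσ.2.2.1 _ hm.1 ψ (zspan_of_mem hψ)
  · obtain ⟨h1, h2⟩ := hnew φ hφ h
    rw [h2, ci_sub_left, ci_zsmul_left, h1, hU1, Int.cast_natCast]
    ring

end pivot

end H6.PF911
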