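import Cfsg.Agent.H6.FusionFunctor
import Cfsg.Agent.H11.QdSection
import Cfsg.Agent.H79.NormalizerStable
import Cfsg.Agent.H72.QdStruct
import Cfsg.Agent.S2763

/-!
`Qd(p)` and control of strong fusion by Thompson centres.
-/

set_option autoImplicit false
set_option linter.all false

open Subgroup
open scoped commutatorElement Pointwise

universe u

namespace H6

/-- The class of `Qd(p)`-free groups. -/
def QdFree (p : ℕ) (L : Type u) [Group L] [Finite L] : Prop :=
  ¬ Cfsg.Involves ↥(Cfsg.qd p) L

variable {p : ℕ} [Fact p.Prime]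

theorem qdFree_hered : HeredClass (fun L [Group L] [Finite L] => QdFree.{u} p L) where
  sub := fun M h hM => h (Involves.of_subgroup M hM)
  quot := fun N _ h hN => h (Involves.of_quotient N hN)

/-- The Thompson centres are Glauberman functors for `Qd(p)`-free groups. -/
theorem zjFunctor (hp : p ≠ 2) (b : Bool) :
    GFunctor.{u} p (fun L [Group L] [Finite L] => QdFree p L) True
      (fun {L} [Group L] [Finite L] D => H79.ZJ p b D) where
  le := fun D => H79.ZJ_le D
  normalizer_le := fun D => H79.ZJ_normalizer_le D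
  map_eq := fun f _ _ hf => H79.ZJ_map hf
  ne_bot := fun hD hD1 => H79.ZJ_ne_bot hD hD1
  normal := fun {L} _ _ hΦ hc S D hD => by
    have h := H79.thompsonCenters_normal hp S D hD.1 hc (fun N _ hN =>
      H11.isPStableOn_of_not_involves_qd hp (Nat.card L) L le_rfl hΦ N hN)
    cases b
    · rw [H79.ZJ_false]; exact h.2
    · rw [H79.ZJ_true]; exact h.1

/-- In a `Qd(p)`-free group the normalizer of a Thompson centre of a strongly closed subgroup
controls strong fusion. -/
theorem controlsStrongFusionOf_zj (hp : p ≠ 2) (b : Bool) {G : Type u} [Group G] [Finite G]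
    (hqd : ¬ Cfsg.Involves ↥(Cfsg.qd p) G) (P : Sylow p G) (D : Subgroup G)
    (hD : Cfsg.IsStronglyClosed D (P : Subgroup G)) (A : Set G) (hA : A ⊆ (P : Subgroup G)) :
    Cfsg.ControlsStrongFusionOf (normalizer (H79.ZJ p b D : Set G)) (P : Subgroup G) A :=
  H79.controlsStrongFusionOf_of_induced _ _
    ((zjFunctor hp b).fusionIn qdFree_hered (Nat.card G) G le_rfl hqd P D ⟨hD, Or.inl trivial⟩) A hA

theorem characteristic_of_map_equiv {X Y : Type*} [Group X] [Group Y] (e : X ≃* Y) {H : Subgroup X}
    (h : H.Characteristic) : (H.map e.toMonoidHom).Characteristic := by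
  rw [characteristic_iff_map_eq] at h ⊢
  intro φ
  have h1 := h ((e.trans φ).trans e.symm)
  calc (H.map e.toMonoidHom).map φ.toMonoidHom
      = (H.map ((e.trans φ).trans e.symm).toMonoidHom).map e.toMonoidHom := by
        rw [map_map, map_map]; congr 1; ext x; simp
    _ = _ := by rw [h1]

variable {Φ : ∀ (L : Type u) [Group L] [Finite L], Prop} {full : Prop}
  {W : ∀ {L : Type u} [Group L] [Finite L], Subgroup L → Subgroup L}

/-- A functor never controls strong fusion in a group isomorphic to `Qd(p)`. -/
theorem GFunctor.not_controls_qd (F : GFunctor p Φ full W) (hp : p ≠ 2) {X : Type u} [Group X]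
    [Finite X] (e : X ≃* ↥(Cfsg.qd p)) (T : Sylow p X) :
    ¬ Cfsg.ControlsStrongFusion p (W (T : Subgroup X)) := by
  rintro ⟨T', -, hctl⟩
  set WT := W (T : Subgroup X) with hWT
  -- the translations
  set V : Subgroup X := (H72.qdProj p).ker.comap e.toMonoidHom with hV
  haveI : V.Normal := inferInstanceAs ((H72.qdProj p).ker.comap e.toMonoidHom).Normal
  have hVp : IsPGroup p V := by
    intro x
    refine ⟨1, ?_⟩
    have h1 := H72.qdProj_pow_p p hp (M := e x) x.2
    rw [pow_one]
    apply Subtype.ext
    apply e.injective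
    simpa using h1
  have hVT : ∀ R : Sylow p X, V ≤ (R : Subgroup X) := fun R => IsPGroup.le_sylow_of_normal hVp R
  have hTW : (T : Subgroup X) ≤ normalizer (WT : Set X) := le_normalizer.trans (F.normalizer_le _)
  -- the normalizer of `W(T)` is everything
  have htop : normalizer (WT : Set X) = ⊤ := by
    rw [eq_top_iff]
    intro g _
    obtain ⟨x, hx, hxg⟩ := (hctl (V : Set X) (hVT T')).2 g (by
      rintro _ ⟨v, hv, rfl⟩
      exact hVT T' (Subgroup.Normal.conj_mem inferInstance v hv g))
    have hc : x⁻¹ * g ∈ V := by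
      show H72.qdProj p (e (x⁻¹ * g)) = 1
      refine H72.qdProj_faithful p fun M hM => ?_
      have hv : e.symm M ∈ V := by
        show H72.qdProj p (e (e.symm M)) = 1
        rw [e.apply_symm_apply]; exact hM
      have h1 : x⁻¹ * g * e.symm M = e.symm M * (x⁻¹ * g) := by
        calc x⁻¹ * g * e.symm M = x⁻¹ * (g * e.symm M * g⁻¹) * g := by group
          _ = x⁻¹ * (x * e.symm M * x⁻¹) * g := by rw [hxg _ hv]
          _ = _ := by group
      simpa using congrArg e h1
    rw [show g = x * (x⁻¹ * g) by group]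
    exact (normalizer (WT : Set X)).mul_mem hx (hTW (hVT T hc))
  -- but `Qd(p)` normalizes no non-trivial characteristic subgroup of a Sylow subgroup
  have hT1 : (T : Subgroup X) ≠ ⊥ := by
    obtain ⟨M, hM, hM1⟩ := H72.qdProj_ker_ne_bot p
    intro h
    have h2 : e.symm M ∈ (T : Subgroup X) := hVT T (show H72.qdProj p (e (e.symm M)) = 1 by
      rw [e.apply_symm_apply]; exact hM)
    rw [h, mem_bot] at h2
    exact hM1 (by simpa using congrArg e h2)
  let T₀ : Sylow p ↥(Cfsg.qd p) := T.mapSurjective (f := e.toMonoidHom) e.surjective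
  let ε : ↥(T : Subgroup X) ≃* ↥(T₀ : Subgroup ↥(Cfsg.qd p)) :=
    (T : Subgroup X).equivMapOfInjective e.toMonoidHom e.injective
  have hchar : (W (⊤ : Subgroup ↥(T : Subgroup X))).Characteristic := by
    rw [characteristic_iff_map_eq]
    intro φ
    rw [F.map_eq φ.toMonoidHom (T.isPGroup'.to_subgroup _)
      (fun x _ hx => φ.injective (hx.trans (map_one _).symm)), map_top_of_surjective _ φ.surjective]
  have hsub : (W (⊤ : Subgroup ↥(T : Subgroup X))).map (T : Subgroup X).subtype = WT := by
    rw [F.map_eq _ (T.isPGroup'.to_subgroup _)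
      (fun x _ hx => (T : Subgroup X).subtype_injective (hx.trans (map_one _).symm)),
      ← MonoidHom.range_eq_map, range_subtype]
  have hne : (W (⊤ : Subgroup ↥(T : Subgroup X))).map ε.toMonoidHom ≠ ⊥ := by
    intro h
    rw [map_eq_bot_iff_of_injective _ ε.injective] at h
    exact F.ne_bot T.isPGroup' hT1 (by rw [← hWT, ← hsub, h, Subgroup.map_bot])
  obtain ⟨h1, h2⟩ := Cfsg.Agent.S2763.result T₀ _ hne (characteristic_of_map_equiv ε hchar)
  apply h2
  rw [← h1, normalizer_eq_top_iff]
  haveI : WT.Normal := normalizer_eq_top_iff.mp htop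
  have hmap : ((W (⊤ : Subgroup ↥(T : Subgroup X))).map ε.toMonoidHom).map
      (T₀ : Subgroup ↥(Cfsg.qd p)).subtype = WT.map e.toMonoidHom := by
    rw [← hsub, map_map, map_map]; rfl
  rw [hmap]
  exact Subgroup.Normal.map inferInstance _ e.surjective

end H6
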