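import Cfsg.Agent.H83.MaxNormalElem
import Cfsg.Agent.H79.Basic
import Cfsg.Agent.H10.PStability
import Cfsg.Agent.H6.Commutator

/-!
For odd `p` a `p`-group with an elementary abelian subgroup of order `p⁴` has a normal one.
-/

set_option autoImplicit false
set_option linter.all false

open Subgroup
open scoped commutatorElement

namespace H6

variable {G : Type*} [Group G] [Finite G] {p : ℕ} [Fact p.Prime]

/-- Counting along a displacement map. -/
theorem card_le_mul_centralizer (E T : Subgroup G) (x : G)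
    (hd : ∀ e ∈ E, e * x * e⁻¹ * x⁻¹ ∈ T) :
    Nat.card E ≤ Nat.card T * Nat.card ↥(E ⊓ centralizer {x}) := by
  classical
  let d : E → T := fun e => ⟨(e : G) * x * (e : G)⁻¹ * x⁻¹, hd e e.2⟩
  let r : T → E := fun t => if h : ∃ e, d e = t then h.choose else 1
  have hr : ∀ e, d (r (d e)) = d e := by
    intro e
    have h : ∃ e', d e' = d e := ⟨e, rfl⟩
    simp only [r, dif_pos h]
    exact h.choose_spec
  have hmem : ∀ e, (r (d e) : G)⁻¹ * (e : G) ∈ E ⊓ centralizer {x} := by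
    intro e
    refine ⟨E.mul_mem (E.inv_mem (r (d e)).2) e.2, mem_centralizer_singleton_iff.mpr ?_⟩
    have h : (r (d e) : G) * x * (r (d e) : G)⁻¹ * x⁻¹ = (e : G) * x * (e : G)⁻¹ * x⁻¹ :=
      congrArg Subtype.val (hr e)
    set a := (r (d e) : G)
    have h2 : a * x * a⁻¹ = (e : G) * x * (e : G)⁻¹ := mul_right_cancel h
    calc a⁻¹ * (e : G) * x = a⁻¹ * ((e : G) * x * (e : G)⁻¹) * (e : G) := by group
      _ = a⁻¹ * (a * x * a⁻¹) * (e : G) := by rw [h2]
      _ = x * (a⁻¹ * (e : G)) := by group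
  rw [← Nat.card_prod]
  refine Nat.card_le_card_of_injective
    (fun e => (d e, (⟨_, hmem e⟩ : ↥(E ⊓ centralizer {x})))) ?_
  intro a b h
  simp only [Prod.mk.injEq, Subtype.mk.injEq] at h
  obtain ⟨h1, h2⟩ := h
  rw [h1] at h2
  exact Subtype.ext (mul_left_cancel h2)

/-- A normal subgroup of a `p`-group contains normal subgroups of every smaller `p`-power order. -/
theorem exists_normal_le_card (hG : IsPGroup p G) (M : Subgroup G) [M.Normal] :
    ∀ n : ℕ, p ^ n ≤ Nat.card M → ∃ K : Subgroup G, K.Normal ∧ K ≤ M ∧ Nat.card K = p ^ n := by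
  intro n
  induction n with
  | zero => intro _; exact ⟨⊥, inferInstance, bot_le, by simp⟩
  | succ n ih =>
    intro h
    have hp := (Fact.out : p.Prime)
    obtain ⟨K, hKn, hKM, hK⟩ := ih ((Nat.pow_le_pow_right hp.pos (Nat.le_succ n)).trans h)
    haveI := hKn
    have hlt : K < M := by
      refine lt_of_le_of_ne hKM ?_
      rintro rfl
      rw [hK] at h
      exact absurd h (not_le.mpr (Nat.pow_lt_pow_right hp.one_lt (Nat.lt_succ_self n)))
    obtain ⟨K', h1, -, h3, h4⟩ := exists_normal_between hG hlt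
    exact ⟨K', h1, h3, by rw [h4, hK, pow_succ, mul_comm]⟩

/-- Between an `E`-invariant subgroup and `A` there is an `E`-invariant subgroup of index `p`
whose quotient is centralised by `E`. -/
theorem exists_invariant_hyperplane (hG : IsPGroup p G) {A E F : Subgroup G}
    (hA : E ≤ normalizer (A : Set G)) (hAc : IsMulCommutative A) (hFA : F < A) (hF : E ≤ normalizer (F : Set G)) :
    ∃ H : Subgroup G, F ≤ H ∧ H < A ∧ Nat.card A = p * Nat.card H ∧
      ∀ e ∈ E, ∀ x ∈ A, e * x * e⁻¹ * x⁻¹ ∈ H := by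
  classical
  set K := A ⊔ E with hK
  obtain ⟨H, hH, hmax⟩ := (Set.toFinite {H : Subgroup G | F ≤ H ∧ H < A ∧
    E ≤ normalizer (H : Set G)}).exists_maximalFor id _ ⟨F, le_rfl, hFA, hF⟩
  obtain ⟨hFH, hHA, hHE⟩ := hH
  have hAH : A ≤ normalizer (H : Set G) := fun a ha => by
    refine mem_normalizer_iff.mpr fun x => ⟨fun hx => ?_, fun hx => ?_⟩
    · have := congrArg Subtype.val (hAc.is_comm.comm ⟨a, ha⟩ ⟨x, hHA.le hx⟩)
      rw [show a * x * a⁻¹ = x by simp only [Subgroup.coe_mul] at this; rw [this]; group]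
      exact hx
    · have hx' : x ∈ A := by
        have h0 := A.mul_mem (A.mul_mem (A.inv_mem ha) (hHA.le hx)) (A.inv_mem (A.inv_mem ha))
        rwa [show a⁻¹ * (a * x * a⁻¹) * a⁻¹⁻¹ = x by group] at h0
      have := congrArg Subtype.val (hAc.is_comm.comm ⟨a, ha⟩ ⟨x, hx'⟩)
      rw [show a * x * a⁻¹ = x by simp only [Subgroup.coe_mul] at this; rw [this]; group] at hx
      exact hx
  have hKH : K ≤ normalizer (H : Set G) := sup_le hAH hHE
  haveI : (H.subgroupOf K).Normal := normal_subgroupOf_of_le_normalizer hKH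
  haveI : (A.subgroupOf K).Normal := normal_subgroupOf_of_le_normalizer (sup_le le_normalizer hA)
  have hKp : IsPGroup p K := hG.to_subgroup K
  have hHK : H ≤ K := hHA.le.trans le_sup_left
  have hAK : A ≤ K := le_sup_left
  have hlt : H.subgroupOf K < A.subgroupOf K := by
    refine lt_of_le_of_ne (comap_mono hHA.le) fun e => hHA.ne ?_
    rw [← map_subgroupOf_eq_of_le hHK, e, map_subgroupOf_eq_of_le hAK]
  obtain ⟨L, hLn, hHL, hLA, hLc⟩ := exists_normal_between hKp hlt
  have hLtop : L = A.subgroupOf K := by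
    by_contra hne
    have h1 : F ≤ L.map K.subtype := by
      refine hFH.trans ?_
      rw [← map_subgroupOf_eq_of_le hHK]
      exact map_mono hHL
    have h2 : L.map K.subtype < A := by
      refine lt_of_le_of_ne ?_ fun e => hne ?_
      · rw [← map_subgroupOf_eq_of_le hAK]; exact map_mono hLA
      · rw [← e]; exact (comap_map_eq_self_of_injective K.subtype_injective L).symm
    have h3 : E ≤ normalizer ((L.map K.subtype : Subgroup G) : Set G) := by
      intro e he
      exact le_normalizer_map K.subtype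
        ⟨⟨e, le_sup_right (a := A) he⟩, by rw [normalizer_eq_top]; exact mem_top _, rfl⟩
    have h4 : H ≤ L.map K.subtype := by
      rw [← map_subgroupOf_eq_of_le hHK]; exact map_mono hHL
    have h5 : L.map K.subtype ≤ H := hmax ⟨h1, h2, h3⟩ h4
    have h6 := Subgroup.card_le_of_le h5
    rw [card_map_of_injective K.subtype_injective, hLc,
      Nat.card_congr (subgroupOfEquivOfLe hHK).toEquiv] at h6
    have := (Fact.out : p.Prime).one_lt
    have : 0 < Nat.card H := Nat.card_pos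
    nlinarith
  have hcard : Nat.card A = p * Nat.card H := by
    rw [← Nat.card_congr (subgroupOfEquivOfLe hAK).toEquiv, ← hLtop, hLc,
      Nat.card_congr (subgroupOfEquivOfLe hHK).toEquiv]
  refine ⟨H, hFH, hHA, hcard, fun e he x hx => ?_⟩
  set π := QuotientGroup.mk' (H.subgroupOf K)
  haveI : ((A.subgroupOf K).map π).Normal :=
    Subgroup.Normal.map inferInstance π (QuotientGroup.mk'_surjective _)
  have hc : Nat.card ((A.subgroupOf K).map π) = p := by
    have h1 := card_map_mk (H.subgroupOf K) (comap_mono hHA.le : H.subgroupOf K ≤ A.subgroupOf K)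
    have eA : Nat.card ↥(A.subgroupOf K) = p * Nat.card H :=
      (Nat.card_congr (subgroupOfEquivOfLe hAK).toEquiv).trans hcard
    have eH : Nat.card ↥(H.subgroupOf K) = Nat.card H := Nat.card_congr (subgroupOfEquivOfLe hHK).toEquiv
    change _ = Nat.card ↥(A.subgroupOf K) at h1
    rw [eA, eH] at h1
    change Nat.card H * Nat.card ↥((A.subgroupOf K).map π) = _ at h1
    have h0 : 0 < Nat.card H := Nat.card_pos
    nlinarith
  have hz := le_center_of_card_eq_prime (hKp.to_quotient _) hc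
    ⟨(⟨x, hAK hx⟩ : K), hx, rfl⟩
  have hcomm := Subgroup.mem_center_iff.mp hz (π ⟨e, le_sup_right (a := A) he⟩)
  have h1 : π (⟨e, le_sup_right (a := A) he⟩ * ⟨x, hAK hx⟩ * ⟨e, le_sup_right (a := A) he⟩⁻¹ *
      ⟨x, hAK hx⟩⁻¹) = 1 := by
    rw [map_mul, map_mul, map_mul, map_inv, map_inv, hcomm]
    group
  simpa [mem_subgroupOf] using (QuotientGroup.eq_one_iff _).mp h1

theorem centralizer_singleton_le_iff {S : Subgroup G} {y : G} :
    S ≤ centralizer {y} ↔ y ∈ centralizer (S : Set G) := by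
  constructor
  · exact fun h => mem_centralizer_iff.mpr fun s hs => mem_centralizer_singleton_iff.mp (h hs)
  · exact fun h s hs => mem_centralizer_singleton_iff.mpr (mem_centralizer_iff.mp h s hs)

/-- A subgroup of index `p` and an element outside it generate. -/
theorem le_of_index_prime {A H S : Subgroup G} (hHA : H < A) (hc : Nat.card A = p * Nat.card H)
    {x : G} (hx : x ∈ A) (hxH : x ∉ H) (hHS : H ≤ S) (hxS : x ∈ S) : A ≤ S := by
  have h1 : H < A ⊓ S := lt_of_le_of_ne (le_inf hHA.le hHS) fun e => hxH (e ▸ ⟨hx, hxS⟩)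
  obtain ⟨a, ha⟩ := card_dvd_of_le (h1.le)
  obtain ⟨b, hb⟩ := card_dvd_of_le (inf_le_left : A ⊓ S ≤ A)
  have hH0 : 0 < Nat.card H := Nat.card_pos
  have hab : a * b = p := by
    rw [hc, ha, mul_assoc, mul_comm p] at hb
    exact (Nat.eq_of_mul_eq_mul_left hH0 hb).symm
  rcases (Nat.dvd_prime Fact.out).mp (Dvd.intro b hab) with e | e
  · exfalso
    refine h1.ne (eq_of_le_of_card_ge h1.le ?_)
    rw [ha, e, mul_one]
  · have : A ⊓ S = A := eq_of_le_of_card_ge inf_le_left (by rw [hc, ha, e, mul_comm])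
    exact this ▸ inf_le_right

theorem exists_normal_elem_four (hp : p ≠ 2) (hG : IsPGroup p G) (E₀ : Subgroup G)
    (hE₀ : Cfsg.IsElementaryAbelian p E₀) (hE₀4 : Nat.card E₀ = p ^ 4) :
    ∃ A : Subgroup G, A.Normal ∧ Cfsg.IsElementaryAbelian p A ∧ Nat.card A = p ^ 4 := by
  classical
  have hpp := (Fact.out : p.Prime)
  have hcom : ∀ {E : Subgroup G}, Cfsg.IsElementaryAbelian p E → ∀ a ∈ E, ∀ b ∈ E, a * b = b * a :=
    fun {E} hE a ha b hb => congrArg Subtype.val (hE.1.is_comm.comm ⟨a, ha⟩ ⟨b, hb⟩)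
  obtain ⟨A, ⟨hAn, hAe⟩, hAmax⟩ := (Set.toFinite {B : Subgroup G | B.Normal ∧
    Cfsg.IsElementaryAbelian p B}).exists_maximalFor id _ ⟨⊥, inferInstance, inferInstance,
      fun a ha => by rw [mem_bot.mp ha, one_pow]⟩
  haveI := hAn
  by_cases hbig : p ^ 4 ≤ Nat.card A
  · obtain ⟨K, hKn, hKA, hKc⟩ := exists_normal_le_card hG A 4 hbig
    refine ⟨K, hKn, ⟨⟨⟨fun x y => Subtype.ext (hcom hAe _ (hKA x.2) _ (hKA y.2))⟩⟩,
      fun a ha => hAe.2 a (hKA ha)⟩, hKc⟩
  push Not at hbig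
  obtain ⟨k, hk⟩ := IsPGroup.iff_card.mp (hG.to_subgroup A)
  have hk3 : k ≤ 3 := by
    rw [hk] at hbig
    have := (Nat.pow_lt_pow_iff_right hpp.one_lt).mp hbig
    omega
  have hmem : ∀ x, x ^ p = 1 → x ∈ centralizer (A : Set G) → x ∈ A := fun x hx hxc =>
    H83.mem_of_maximal_normal_elemAb hp hG hAe
      (fun B hB hBe hAB => le_antisymm (hAmax ⟨hB, hBe⟩ hAB) hAB) hx
      (fun e he => (mem_centralizer_iff.mp hxc e he).symm)
  have hpow : ∀ {m n : ℕ}, p ^ m ≤ p ^ n → m ≤ n := fun {m n} h =>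
    (Nat.pow_le_pow_iff_right hpp.one_lt).mp h
  have key : ∀ E : Subgroup G, Cfsg.IsElementaryAbelian p E → Nat.card E = p ^ 4 →
      E ⊓ A = A ⊓ centralizer (E : Set G) ∧
      Nat.card ↥(A ⊓ centralizer (E : Set G)) = p ^ 2 ∧ k = 3 ∧
      ∀ x ∈ A, x ∉ A ⊓ centralizer (E : Set G) →
        E ⊓ centralizer {x} ≤ A ⊓ centralizer (E : Set G) ∧
        ∀ e ∈ E, e * x * e⁻¹ * x⁻¹ ∈ A ⊓ centralizer (E : Set G) := by
    intro E hE hE4
    set F := A ⊓ centralizer (E : Set G) with hF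
    have hFA : F < A := by
      refine lt_of_le_of_ne inf_le_left fun e => ?_
      have hEA : E ≤ A := fun y hy => hmem y (hE.2 y hy) (mem_centralizer_iff.mpr fun a ha => by
        rw [← e] at ha
        exact (mem_centralizer_iff.mp ha.2 y hy).symm)
      have := Subgroup.card_le_of_le hEA
      rw [hE4, hk] at this
      have := hpow this
      omega
    have hBF : E ⊓ A ≤ F := fun b hb =>
      ⟨hb.2, mem_centralizer_iff.mpr fun y hy => hcom hE y hy b hb.1⟩
    have hEN : ∀ X : Subgroup G, X ≤ F → E ≤ normalizer (X : Set G) := fun X hX e he =>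
      centralizer_le_normalizer _ (mem_centralizer_iff.mpr fun f hf =>
        (mem_centralizer_iff.mp (hX hf).2 e he).symm)
    have hEA' : E ≤ normalizer (A : Set G) := by rw [normalizer_eq_top]; exact le_top
    obtain ⟨H, hFH, hHA, hHc, hH⟩ := exists_invariant_hyperplane hG hEA' hAe.1 hFA (hEN F le_rfl)
    obtain ⟨x₀, hx₀, hx₀H⟩ := SetLike.exists_of_lt hHA
    set E₂ := E ⊓ centralizer (H : Set G) with hE₂
    have hd : ∀ e ∈ E₂, e * x₀ * e⁻¹ * x₀⁻¹ ∈ F := by
      intro e he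
      set d := e * x₀ * e⁻¹ * x₀⁻¹ with hd
      have hdH : d ∈ H := hH e he.1 x₀ hx₀
      refine ⟨hHA.le hdH, mem_centralizer_iff.mpr fun e₁ he₁ => ?_⟩
      set d₁ := e₁ * x₀ * e₁⁻¹ * x₀⁻¹ with hd₁
      have hd₁H : d₁ ∈ H := hH e₁ he₁ x₀ hx₀
      have h1 : d₁ * e = e * d₁ := mem_centralizer_iff.mp he.2 d₁ hd₁H
      have h2 : d₁ * d = d * d₁ := hcom hAe _ (hHA.le hd₁H) _ (hHA.le hdH)
      have h3 : e₁ * e = e * e₁ := hcom hE _ he₁ _ he.1
      have h4 : e₁ * d * e₁⁻¹ * d₁ = d₁ * d := by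
        calc e₁ * d * e₁⁻¹ * d₁ = (e₁ * e) * x₀ * (e₁ * e)⁻¹ * x₀⁻¹ := by rw [hd, hd₁]; group
          _ = e * (d₁ * x₀) * e⁻¹ * x₀⁻¹ := by rw [h3, hd₁]; group
          _ = d₁ * (e * x₀ * e⁻¹ * x₀⁻¹) := by
            calc e * (d₁ * x₀) * e⁻¹ * x₀⁻¹ = e * d₁ * x₀ * e⁻¹ * x₀⁻¹ := by group
              _ = d₁ * e * x₀ * e⁻¹ * x₀⁻¹ := by rw [h1]
              _ = _ := by group
      rw [h2] at h4
      calc e₁ * d = (e₁ * d * e₁⁻¹ * d₁) * d₁⁻¹ * e₁ := by group
        _ = d * e₁ := by rw [h4]; group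
    have hker : E₂ ⊓ centralizer {x₀} ≤ E ⊓ A := by
      intro y hy
      refine ⟨hy.1.1, hmem y (hE.2 y hy.1.1) (centralizer_singleton_le_iff.mp ?_)⟩
      exact le_of_index_prime hHA hHc hx₀ hx₀H (centralizer_singleton_le_iff.mpr hy.1.2)
        (mem_centralizer_singleton_iff.mpr (mem_centralizer_singleton_iff.mp hy.2).symm)
    have hE₂c : Nat.card E₂ ≤ Nat.card F * Nat.card F :=
      (card_le_mul_centralizer E₂ F x₀ hd).trans
        (Nat.mul_le_mul_left _ (Subgroup.card_le_of_le (hker.trans hBF)))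
    obtain ⟨i, hi⟩ := IsPGroup.iff_card.mp (hG.to_subgroup F)
    obtain ⟨j, hj⟩ := IsPGroup.iff_card.mp (hG.to_subgroup H)
    have hjk : j + 1 = k := by
      rw [hk, hj, ← pow_succ'] at hHc
      exact (Nat.pow_right_injective hpp.two_le hHc).symm
    have hFH' : F = H := by
      by_contra hne
      have hlt : F < H := lt_of_le_of_ne hFH hne
      have hij : i < j := by
        have := Set.Finite.card_lt_card (Set.toFinite _) (SetLike.coe_ssubset_coe.mpr hlt)
        change Nat.card F < Nat.card H at this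
        rw [hi, hj] at this
        exact (Nat.pow_lt_pow_iff_right hpp.one_lt).mp this
      have hi1 : 1 ≤ i := by
        by_contra h0
        have hi0 : Nat.card F = 1 := by rw [hi, show i = 0 by omega, pow_zero]
        refine inf_center_ne_bot hG (N := A) ?_ (le_bot_iff.mp fun z hz => ?_)
        · intro e; rw [e] at hFA; exact not_lt_bot hFA
        · rw [card_eq_one] at hi0
          rw [← hi0]
          exact ⟨hz.1, mem_centralizer_iff.mpr fun y _ => mem_center_iff.mp hz.2 y⟩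
      have hEH : E ≤ normalizer (H : Set G) := H79.le_normalizer_of_conj_mem fun e he y hy => by
        have h1 := H.mul_mem (hH e he y (hHA.le hy)) hy
        rwa [inv_mul_cancel_right] at h1
      obtain ⟨H', hFH', hH'H, hH'c, hH'⟩ := exists_invariant_hyperplane hG hEH
        ⟨⟨fun a b => Subtype.ext (hcom hAe _ (hHA.le a.2) _ (hHA.le b.2))⟩⟩ hlt (hEN F le_rfl)
      have hH'F : H' = F := by
        refine (eq_of_le_of_card_ge hFH' ?_).symm
        obtain ⟨j', hj'⟩ := IsPGroup.iff_card.mp (hG.to_subgroup H')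
        rw [hj, hj', ← pow_succ'] at hH'c
        have := Nat.pow_right_injective hpp.two_le hH'c
        rw [hi, hj']
        exact Nat.pow_le_pow_right hpp.pos (by omega)
      rw [hH'F] at hH' hH'c
      obtain ⟨y, hy, hyF⟩ := SetLike.exists_of_lt hlt
      have hker' : E ⊓ centralizer {y} ≤ E₂ := fun e he =>
        ⟨he.1, centralizer_singleton_le_iff.mp (le_of_index_prime hlt hH'c hy hyF
          (centralizer_singleton_le_iff.mpr (mem_centralizer_iff.mpr fun f hf =>
            (mem_centralizer_iff.mp hf.2 e he.1).symm))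
          (mem_centralizer_singleton_iff.mpr (mem_centralizer_singleton_iff.mp he.2).symm))⟩
      have h1 := (card_le_mul_centralizer E F y (fun e he => hH' e he y hy)).trans
        (Nat.mul_le_mul_left _ ((Subgroup.card_le_of_le hker').trans hE₂c))
      rw [hE4, hi, ← pow_add, ← pow_add] at h1
      have := hpow h1
      omega
    subst hFH'
    have hEE₂ : E₂ = E := inf_of_le_left fun e he =>
      mem_centralizer_iff.mpr fun f hf => (mem_centralizer_iff.mp hf.2 e he).symm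
    have hij : i = j := Nat.pow_right_injective hpp.two_le (hi.symm.trans hj)
    obtain ⟨b, hb⟩ := IsPGroup.iff_card.mp (hG.to_subgroup (E ⊓ A))
    have h4 := (card_le_mul_centralizer E₂ F x₀ hd).trans
        (Nat.mul_le_mul_left _ (Subgroup.card_le_of_le hker))
    rw [hEE₂, hE4, hi, hb, ← pow_add] at h4
    have hbi : b ≤ i := hpow (hb ▸ hi ▸ Subgroup.card_le_of_le hBF)
    have h5 := hpow h4
    have hBeq : E ⊓ A = F := eq_of_le_of_card_ge hBF (by
      rw [hi, hb]; exact Nat.pow_le_pow_right hpp.pos (by omega))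
    refine ⟨hBeq, by rw [hi, show i = 2 by omega], by omega, fun x hx hxF => ?_⟩
    refine ⟨fun e he => hBeq ▸ ⟨he.1, hmem e (hE.2 e he.1) (centralizer_singleton_le_iff.mp ?_)⟩,
      fun e he => hH e he x hx⟩
    exact le_of_index_prime hHA hHc hx hxF
      (centralizer_singleton_le_iff.mpr (mem_centralizer_iff.mpr fun f hf =>
        (mem_centralizer_iff.mp hf.2 e he.1).symm))
      (mem_centralizer_singleton_iff.mpr (mem_centralizer_singleton_iff.mp he.2).symm)
  -- all of them meet `A` in the same normal subgroup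
  obtain ⟨-, -, hk', -⟩ := key E₀ hE₀ hE₀4
  subst hk'
  obtain ⟨A₁, hA₁n, hA₁A, hA₁c⟩ := exists_normal_le_card hG A 2
    (by rw [hk]; exact Nat.pow_le_pow_right hpp.pos (by norm_num))
  haveI := hA₁n
  obtain ⟨Z, hZn, hZA, hZc⟩ := exists_normal_le_card hG A₁ 1
    (by rw [hA₁c]; exact Nat.pow_le_pow_right hpp.pos (by norm_num))
  rw [pow_one] at hZc
  have hZlt : Z < A₁ := by
    refine lt_of_le_of_ne hZA fun e => ?_
    rw [e, hA₁c] at hZc
    have := hpp.one_lt
    nlinarith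
  haveI := hZn
  obtain ⟨Z', hZZ', hZ'A, hZ'c, hZ'⟩ := exists_invariant_hyperplane (E := (⊤ : Subgroup G)) hG
    (by rw [normalizer_eq_top])
    ⟨⟨fun a b => Subtype.ext (hcom hAe _ (hA₁A a.2) _ (hA₁A b.2))⟩⟩ hZlt
    (by rw [normalizer_eq_top])
  have hZ'Z : Z' = Z := by
    refine (eq_of_le_of_card_ge hZZ' ?_).symm
    rw [hA₁c, pow_two] at hZ'c
    rw [hZc]
    exact (Nat.eq_of_mul_eq_mul_left hpp.pos hZ'c).ge
  rw [hZ'Z] at hZ'
  have hA₁F : ∀ E : Subgroup G, Cfsg.IsElementaryAbelian p E → Nat.card E = p ^ 4 →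
      A ⊓ centralizer (E : Set G) = A₁ := by
    intro E hE hE4
    obtain ⟨-, hFc, -, hx⟩ := key E hE hE4
    refine (eq_of_le_of_card_ge (fun y hy => ?_) (by rw [hA₁c, hFc])).symm
    by_contra hyF
    obtain ⟨hker, -⟩ := hx y (hA₁A hy) hyF
    have h1 := (card_le_mul_centralizer E Z y (fun e he => hZ' e (mem_top e) y hy)).trans
      (Nat.mul_le_mul_left _ (Subgroup.card_le_of_le hker))
    rw [hE4, hZc, hFc, ← pow_succ'] at h1
    have := hpow h1
    omega
  obtain ⟨x₀, hx₀, hx₀A₁⟩ : ∃ x ∈ A, x ∉ A₁ := SetLike.not_le_iff_exists.mp fun h => by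
    have := Subgroup.card_le_of_le h
    rw [hk, hA₁c] at this
    have := hpow this
    omega
  have hA₁lt : A₁ < A := lt_of_le_of_ne hA₁A fun e => hx₀A₁ (e ▸ hx₀)
  have hA₁idx : Nat.card A = p * Nat.card A₁ := by rw [hk, hA₁c]; ring
  -- two of them normalizing each other are equal
  have huniq : ∀ E E' : Subgroup G, Cfsg.IsElementaryAbelian p E → Nat.card E = p ^ 4 →
      Cfsg.IsElementaryAbelian p E' → Nat.card E' = p ^ 4 → E' ≤ normalizer (E : Set G) →
      E ≤ normalizer (E' : Set G) → E' ≤ E := by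
    intro E E' hE hE4 hE' hE'4 hn hn'
    obtain ⟨hB, hFc, -, hx⟩ := key E hE hE4
    obtain ⟨hB', hF'c, -, hx'⟩ := key E' hE' hE'4
    rw [hA₁F E hE hE4] at hB hFc hx
    rw [hA₁F E' hE' hE'4] at hB' hF'c hx'
    have hcA₁ : ∀ X : Subgroup G, Cfsg.IsElementaryAbelian p X → A₁ ≤ X → ∀ e ∈ X,
        A₁ ≤ centralizer {e} := fun X hX hle e he a ha =>
      mem_centralizer_singleton_iff.mpr (hcom hX a (hle ha) e he)
    have hA₁E : A₁ ≤ E := hB ▸ inf_le_left
    have hA₁E' : A₁ ≤ E' := hB' ▸ inf_le_left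
    let T : Subgroup G :=
      { carrier := {d | d ∈ A₁ ∧ ∃ e ∈ E, e * x₀ * e⁻¹ * x₀⁻¹ = d}
        one_mem' := ⟨A₁.one_mem, 1, E.one_mem, by group⟩
        mul_mem' := fun {a b} ha hb => by
          obtain ⟨ha1, e, he, rfl⟩ := ha
          obtain ⟨hb1, f, hf, rfl⟩ := hb
          refine ⟨A₁.mul_mem ha1 hb1, e * f, E.mul_mem he hf, ?_⟩
          have h1 : e * (f * x₀ * f⁻¹ * x₀⁻¹) = (f * x₀ * f⁻¹ * x₀⁻¹) * e :=
            hcom hE e he _ (hA₁E hb1)
          calc e * f * x₀ * (e * f)⁻¹ * x₀⁻¹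
              = e * (f * x₀ * f⁻¹ * x₀⁻¹) * (x₀ * e⁻¹ * x₀⁻¹) := by group
            _ = (f * x₀ * f⁻¹ * x₀⁻¹) * (e * x₀ * e⁻¹ * x₀⁻¹) := by rw [h1]; group
            _ = _ := hcom hE _ (hA₁E hb1) _ (hA₁E ha1)
        inv_mem' := fun {a} ha => by
          obtain ⟨ha1, e, he, rfl⟩ := ha
          refine ⟨A₁.inv_mem ha1, e⁻¹, E.inv_mem he, ?_⟩
          have h1 : (e * x₀ * e⁻¹ * x₀⁻¹)⁻¹ * e = e * (e * x₀ * e⁻¹ * x₀⁻¹)⁻¹ :=
            hcom hE _ (hA₁E (A₁.inv_mem ha1)) e he
          calc e⁻¹ * x₀ * e⁻¹⁻¹ * x₀⁻¹ = e⁻¹ * (e * (e * x₀ * e⁻¹ * x₀⁻¹)⁻¹) := by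
                rw [← h1]; group
            _ = _ := by group }
    have hT : T = A₁ := by
      refine eq_of_le_of_card_ge (fun d hd => hd.1) ?_
      obtain ⟨hker, hd⟩ := hx x₀ hx₀ hx₀A₁
      have h1 := (card_le_mul_centralizer E T x₀ (fun e he => ⟨hd e he, e, he, rfl⟩)).trans
        (Nat.mul_le_mul_left _ (Subgroup.card_le_of_le hker))
      rw [hE4, hFc, show p ^ 4 = p ^ 2 * p ^ 2 by ring] at h1
      rw [hA₁c]
      exact Nat.le_of_mul_le_mul_right h1 (Nat.pow_pos hpp.pos)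
    have hrep : ∀ e' ∈ E', ∃ e ∈ E, e⁻¹ * e' ∈ A := by
      intro e' he'
      have hd' := (hx' x₀ hx₀ hx₀A₁).2 e' he'
      rw [← hT] at hd'
      obtain ⟨-, e, he, hee⟩ := hd'
      refine ⟨e, he, hmem _ ?_ (centralizer_singleton_le_iff.mp ?_)⟩
      · have hnE : ∀ a ∈ normalizer (E : Set G), ∀ b ∈ E, a * b * a⁻¹ ∈ E := fun a ha b hb =>
          (mem_normalizer_iff.mp ha b).mp hb
        have hnE' : ∀ a ∈ normalizer (E' : Set G), ∀ b ∈ E', a * b * a⁻¹ ∈ E' := fun a ha b hb =>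
          (mem_normalizer_iff.mp ha b).mp hb
        have hcE : ⁅e', e⁻¹⁆ ∈ E := by
          rw [commutatorElement_def]
          exact E.mul_mem (hnE e' (hn he') _ (E.inv_mem he)) (E.inv_mem (E.inv_mem he))
        have hcE' : ⁅e', e⁻¹⁆ ∈ E' := by
          rw [commutatorElement_def, show e' * e⁻¹ * e'⁻¹ * e⁻¹⁻¹ = e' * (e⁻¹ * e'⁻¹ * e⁻¹⁻¹) by group]
          exact E'.mul_mem he' (hnE' _ (inv_mem (hn' he)) _ (E'.inv_mem he'))
        rw [mul_pow_prime_of_commute_commutator hpp hp (hcom hE _ hcE _ (E.inv_mem he))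
          (hcom hE' _ hcE' _ he') (hE.2 _ hcE), inv_pow, hE.2 e he, hE'.2 e' he', inv_one, one_mul]
      · refine le_of_index_prime hA₁lt hA₁idx hx₀ hx₀A₁ (fun a ha => ?_) ?_
        · refine mem_centralizer_singleton_iff.mpr ?_
          have h1 : a * e⁻¹ = e⁻¹ * a := hcom hE a (hA₁E ha) _ (E.inv_mem he)
          have h2 : a * e' = e' * a := hcom hE' a (hA₁E' ha) e' he'
          calc a * (e⁻¹ * e') = (a * e⁻¹) * e' := by group
            _ = e⁻¹ * (a * e') := by rw [h1]; group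
            _ = e⁻¹ * e' * a := by rw [h2]; group
        · refine mem_centralizer_singleton_iff.mpr ?_
          have h2 : e * x₀ * e⁻¹ = e' * x₀ * e'⁻¹ := mul_right_cancel hee
          calc x₀ * (e⁻¹ * e') = e⁻¹ * (e * x₀ * e⁻¹) * e' := by group
            _ = e⁻¹ * e' * x₀ := by rw [h2]; group
    intro e' he'
    obtain ⟨e, he, hc⟩ := hrep e' he'
    set c := e⁻¹ * e' with hcdef
    have he'eq : e' = e * c := by rw [hcdef]; group
    by_cases hcA₁ : c ∈ A₁
    · rw [he'eq]; exact E.mul_mem he (hA₁E hcA₁)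
    exfalso
    set t := e⁻¹ * c * e * c⁻¹ with ht
    have hS : ∀ a ∈ A, e⁻¹ * a * e * a⁻¹ ∈ zpowers t := by
      let S : Subgroup G :=
        { carrier := {a | a ∈ A ∧ e⁻¹ * a * e * a⁻¹ ∈ zpowers t}
          one_mem' := ⟨A.one_mem, by simp [one_mem]⟩
          mul_mem' := fun {a b} ha hb => by
            refine ⟨A.mul_mem ha.1 hb.1, ?_⟩
            have hconjb : e⁻¹ * b * e ∈ A := by simpa using hAn.conj_mem b hb.1 e⁻¹
            have h1 : (e⁻¹ * b * e * b⁻¹) * a⁻¹ = a⁻¹ * (e⁻¹ * b * e * b⁻¹) :=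
              hcom hAe _ (A.mul_mem hconjb (A.inv_mem hb.1)) _ (A.inv_mem ha.1)
            rw [show e⁻¹ * (a * b) * e * (a * b)⁻¹ =
              (e⁻¹ * a * e) * ((e⁻¹ * b * e * b⁻¹) * a⁻¹) by group, h1, ← mul_assoc]
            exact (zpowers t).mul_mem ha.2 hb.2
          inv_mem' := fun {a} ha => by
            refine ⟨A.inv_mem ha.1, ?_⟩
            have hconja : e⁻¹ * a⁻¹ * e ∈ A := by simpa using hAn.conj_mem _ (A.inv_mem ha.1) e⁻¹
            rw [inv_inv, hcom hAe _ hconja a ha.1]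
            have h2 := (zpowers t).inv_mem ha.2
            rwa [show (e⁻¹ * a * e * a⁻¹)⁻¹ = a * (e⁻¹ * a⁻¹ * e) by group] at h2 }
      intro a ha
      have hle : A ≤ S := by
        refine le_of_index_prime hA₁lt hA₁idx hc hcA₁ (fun b hb => ⟨hA₁A hb, ?_⟩)
          ⟨hc, mem_zpowers t⟩
        rw [show e⁻¹ * b * e * b⁻¹ = 1 by rw [mul_assoc _ b e, hcom hE b (hA₁E hb) e he]; group]
        exact one_mem _
      exact (hle ha).2
    have hd : ∀ f' ∈ E', f' * c * f'⁻¹ * c⁻¹ ∈ zpowers t := by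
      intro f₀ hf₀
      obtain ⟨f, hf, hc'⟩ := hrep f₀⁻¹ (E'.inv_mem hf₀)
      set c' := f⁻¹ * f₀⁻¹ with hc'def
      have h1 : e * c * (f * c') = f * c' * (e * c) := by
        rw [← he'eq, show f * c' = f₀⁻¹ by rw [hc'def]; group]
        exact hcom hE' _ he' _ (E'.inv_mem hf₀)
      have hef : e * f = f * e := hcom hE e he f hf
      have h2 : f⁻¹ * c * f * c' = e⁻¹ * c' * e * c := by
        apply mul_left_cancel (a := e * f)
        calc e * f * (f⁻¹ * c * f * c') = e * c * (f * c') := by group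
          _ = f * c' * (e * c) := h1
          _ = f * e * (e⁻¹ * c' * e * c) := by group
          _ = _ := by rw [hef]
      have hfc : f₀ * c * f₀⁻¹ = c'⁻¹ * (f⁻¹ * c * f) * c' := by rw [hc'def]; group
      have h3 : f⁻¹ * c * f ∈ A := by simpa using hAn.conj_mem c hc f⁻¹
      have h4 : e⁻¹ * c' * e ∈ A := by simpa using hAn.conj_mem c' hc' e⁻¹
      have e1 : f₀ * c * f₀⁻¹ * c⁻¹ = e⁻¹ * c' * e * c'⁻¹ := by
        rw [hfc, mul_assoc c'⁻¹, h2,
          show c'⁻¹ * (e⁻¹ * c' * e * c) * c⁻¹ = c'⁻¹ * (e⁻¹ * c' * e) by group,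
          hcom hAe _ (A.inv_mem hc') _ h4]
      rw [e1]
      exact hS c' hc'
    have h5 := (card_le_mul_centralizer E' (zpowers t) c hd).trans
      (Nat.mul_le_mul (Nat.le_of_dvd hpp.pos (by
          rw [Nat.card_zpowers]
          refine orderOf_dvd_of_pow_eq_one (hAe.2 t (A.mul_mem ?_ (A.inv_mem hc)))
          simpa using hAn.conj_mem c hc e⁻¹))
        (Subgroup.card_le_of_le (hx' c hc hcA₁).1))
    rw [hE'4, hF'c, ← pow_succ'] at h5
    have := hpow h5
    omega
  -- normality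
  refine ⟨E₀, ?_, hE₀, hE₀4⟩
  by_contra hnn
  set S := normalizer (E₀ : Set G) with hS
  have hlt : S < ⊤ := lt_top_iff_ne_top.mpr fun e => hnn (normalizer_eq_top_iff.mp e)
  have hnil : Group.IsNilpotent G := hG.isNilpotent
  obtain ⟨g, hg, hgS⟩ := SetLike.exists_of_lt (Group.normalizerCondition_of_isNilpotent S hlt)
  refine hgS (mem_normalizer_iff_map_conj_eq.mpr (eq_of_le_of_card_ge ?_
    (by rw [card_map_of_injective (MulAut.conj g).injective])))
  refine huniq E₀ _ hE₀ hE₀4 (H10.IsElementaryAbelian.map _ hE₀)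
    (by rw [card_map_of_injective (MulAut.conj g).injective, hE₀4]) ?_ ?_
  · rintro _ ⟨y, hy, rfl⟩
    exact (mem_normalizer_iff.mp hg y).mp (le_normalizer hy)
  · intro y hy
    have h1 : g⁻¹ * y * g ∈ S := (mem_normalizer_iff''.mp hg y).mp (le_normalizer hy)
    have h2 := le_normalizer_map (MulAut.conj g).toMonoidHom ⟨_, h1, rfl⟩
    simpa [mul_assoc] using h2

end H6
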